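import Cfsg.Agent.R11.EB
import Cfsg.Agent.R11.EO
import Cfsg.Agent.R11.ET
import Cfsg.Agent.Gold.SpreadBasic

/-! # Normal subgroups of the section -/

set_option autoImplicit false

namespace Cfsg.Lib.R11

open Subgroup Equiv Cfsg.Lib.Trans Cfsg.Lib.Local Cfsg.Lib.SporChar
open scoped commutatorElement

universe u

variable {X : Type u} [Group X] [Finite X] {E Y : Subgroup X} {a : X} {φ : X → Perm (Fin 6)}
  {d : Fin 6 → Fin 6 → X}

theorem EN.le_of_odd {T K H : Subgroup X} (hT : IsSylowIn 2 T K) (h1 : T ≤ H)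
    (h2 : ∀ x ∈ K, Odd (orderOf x) → x ∈ H) : K ≤ H := by
  by_contra k
  obtain ⟨p, hp, e⟩ := Nat.exists_prime_and_dvd (mt relIndex_eq_one.1 k)
  have := Fact.mk hp
  have p2 : p ≠ 2 := fun c => hT.not_dvd_relIndex_of_le h1 (c ▸ e)
  obtain ⟨S, hS⟩ := exists_isSylowIn (p := p) K
  refine hS.not_dvd_relIndex_of_le (fun x hx => h2 x (hS.le hx) ?_) e
  obtain ⟨n, hn⟩ := IsPGroup.iff_orderOf.1 hS.isPGroup ⟨x, hx⟩
  rw [← orderOf_coe] at hn
  rw [hn]
  exact (hp.odd_of_ne_two p2).pow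

theorem EN.E_le (h : Sx E Y a φ d) {N : Subgroup X} [hn : N.Normal] (hN : ¬ N ≤ zpowers a) :
    E ≤ N := by
  obtain ⟨T, hT, ET, TY, -⟩ := h.sylow
  have h1 := hT.inf_normal_of_le (N := N) (by rw [normalizer_eq_top]) le_top
  have h2 : T ⊓ N ≠ ⊥ := fun e => hN (h.odd_le (by
    rw [← Nat.not_even_iff_odd, even_iff_two_dvd]; exact h1.eq_bot_iff.1 e))
  obtain ⟨⟨s, hs⟩, s1⟩ := ne_bot_iff_exists_ne_one.1 h2
  obtain ⟨e, he, eN, e1⟩ : ∃ e ∈ E, e ∈ N ∧ e ≠ 1 := by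
    by_cases c : s ∈ E
    · exact ⟨s, c, hs.2, fun k => s1 (Subtype.ext k)⟩
    obtain ⟨n, k⟩ := hT.isPGroup ⟨s, hs.1⟩
    have h3 := h.fix (TY hs.1) fun f => c (h.mem_E (TY hs.1) f (congrArg Subtype.val k))
    have h4 : ¬ E ≤ centralizer ({s} : Set X) := fun f => by
      rw [inf_eq_left.2 f, h.cardE] at h3
      omega
    obtain ⟨e, he, f⟩ := SetLike.not_le_iff_exists.1 h4
    refine ⟨s * e * s⁻¹ * e⁻¹, mul_mem (mem_normalizer_conj (h.Y_norm (TY hs.1)) he) (inv_mem he),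
      ?_, fun g => f (mem_centralizer_singleton_iff.2 ?_)⟩
    · rw [mul_assoc, mul_assoc, ← mul_assoc e]
      exact mul_mem hs.2 (hn.conj_mem _ (inv_mem hs.2) e)
    · rw [mul_inv_eq_one, mul_inv_eq_iff_eq_mul] at g
      exact g.symm
  intro e' he'
  by_cases c : e' = 1
  · rw [c]; exact one_mem N
  obtain ⟨y, -, rfl⟩ := h.trans he he' e1 c
  exact hn.conj_mem e eN y

theorem Sx.normal (h : Sx E Y a φ d) {N : Subgroup X} [N.Normal] (hN : ¬ N ≤ zpowers a) :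
    N = ⊤ ∨ Y = ⊤ := by
  have eN := EN.E_le h hN
  have nN : ∀ g, g ∈ normalizer (N : Set X) := fun g => by rw [normalizer_eq_top]; trivial
  obtain ⟨T, hT, ET, TY, -, t1, t2⟩ := h.sylow
  rcases h.img (N := N) (fun g _ => nN g) with k | k
  · have h1 := hT.inf_normal_of_le (N := N) (fun g _ => nN g) le_top
    have h2 : T ⊓ N = E := le_antisymm (fun s hs => by
      obtain ⟨n, c⟩ := hT.isPGroup ⟨s, hs.1⟩
      exact h.mem_E (TY hs.1) (k s hs.2 (TY hs.1)) (congrArg Subtype.val c)) (le_inf ET eN)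
    rw [h2] at h1
    have : (Gold.Oc N).Normal := normalizer_eq_top_iff.1
      (eq_top_iff.2 fun g _ => Gold.mem_Ns_Oc (nN g))
    have h3 : N ≤ Y := EN.le_of_odd h1 h.EY fun x hx ho => zpowers_le.2 h.aY
      (h.odd_le Gold.odd_card_Oc (Gold.F4.mem_Oc_of_burnside h1 (fun y hy e he =>
        (h.cent_ker (h.norm hy.2) (k y hy.1 (h.norm hy.2)) he).symm) hx ho))
    refine .inr (eq_top_iff.2 fun g _ => ?_)
    obtain ⟨c, hc, n, hn, rfl⟩ := h1.frattini (nN g)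
    exact mul_mem (h3 hc) (h.norm hn)
  · have h1 : Y ≤ N ⊔ zpowers a := fun y hy => by
      obtain ⟨n, hn, nY, e⟩ := k _ (h.φ_even y hy)
      have := (h.φ_ker _ (mul_mem (inv_mem nY) hy)).1 (by
        rw [h.φ_mul _ (inv_mem nY) _ hy, h.φ_inv nY, e, inv_mul_cancel])
      rw [← mul_inv_cancel_left n y]
      exact mul_mem (mem_sup_left hn) (sup_le_sup_right eN _ this)
    have h2 : N ⊔ zpowers a ≤ (zpowers (QuotientGroup.mk' N a)).comap (QuotientGroup.mk' N) :=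
      sup_le (fun n hn => by
        rw [mem_comap, show QuotientGroup.mk' N n = 1 from (QuotientGroup.eq_one_iff n).2 hn]
        exact one_mem _) (zpowers_le.2 (mem_zpowers _))
    obtain ⟨R, RY, -, hR⟩ := h.comm
    have h3 : ⁅R, R⁆ ≤ N := commutator_le.2 fun r hr s hs => by
      obtain ⟨i, hi⟩ := h2 (h1 (RY hr))
      obtain ⟨j, hj⟩ := h2 (h1 (RY hs))
      rw [← QuotientGroup.eq_one_iff, ← QuotientGroup.mk'_apply, map_commutatorElement,
        commutatorElement_eq_one_iff_commute, ← hi, ← hj]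
      exact (Commute.refl _).zpow_zpow i j
    have h4 : Y ≤ N := h1.trans (sup_le le_rfl (zpowers_le.2 (h3 hR)))
    refine .inl (eq_top_iff.2 fun g _ => ?_)
    obtain ⟨c, hc, n, hn, rfl⟩ := (hT.mono (TY.trans h4) le_top).frattini (nN g)
    exact mul_mem hc (h4 (h.normT hT.isPGroup ET TY t1 t2 hn))

end Cfsg.Lib.R11
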