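import Cfsg.Agent.R11.GA
import Cfsg.Agent.R11.Ho

/-! Coordinates for the trio parabolic of `2^11.M24` (Golay code case). -/

set_option autoImplicit false
set_option maxRecDepth 100000

namespace Cfsg.Lib.R11

open Subgroup Cfsg.Lib.Trans Cfsg.Lib.Gold Cfsg.Lib.Spor Cfsg.Lib.Spor.MP
open scoped commutatorElement Pointwise

universe u

variable {G : Type u} [Group G]

namespace GD

/-- The pointwise stabiliser `2⁴` of the octad; `nP j` fixes the trio iff `j < 8`. -/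
def nP (j : ℕ) : ℕ := CQ.tb 0xbc92655a2c3b9706cea47d0a818820ba1474922b3398d85676a3cb218820bb4c93ae2453ac893e8c9d4b018820bc0ea332364b892451ebaccad18820b9e086be3593a6952d94b10a618820b99b28523343aaa4b16f258a718820ba91094e346b9e63d8955b0a918820ba64d4562f83a87312d362caa18820bd6cb22627638cfa224a834b318820bcc8cb2a265b8f47c9096c0b518820bd17661a2a23933ac1a7448af18820bbd8459e29b39559b606920b418820bb1f3a4232ab916218ed4a8ab18820bae957b6289ba44b1cd0524ac18820b926faa22da3a0b6255231cb618820bdab49ca307b9ac5a928398a418820 j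

/-- The group `2⁶` of the trio; `yP j = nP (j % 8) * om * nP (j / 8) * om⁻¹`. -/
def yP (j : ℕ) : ℕ := CQ.tb 0x5ab49a4a7788cc5a24a836240b8770126faa8a6a08eb649096c2360b87702e95798aa98924b41a744a2c0b877031f3a1ca9a8956236069222b0b87703d845c0b2b0915998ed4aa340b87705176634a820a53a9cd05262f0b87704c8cb20ad58a147a55231e350b877056cb248b0609afa292839a330b8772926faa407a0ccb6224a836f6704512dab49a80678cec5c9096c2e4704512b1f3a180aa8d36241a744aeb704512ae9579c0998d44b3606922ec704512d1766401220d13a98ed4aaef704512bd845b408b0e5599cd0526f4704512d6cb2200d60e0fa255231ef3704512cc8cb481058db47a92839af57045172e957a4279dcc4b224a8346c28222731f3a2826adcf6249096c06b2822275ab49982a7dd2c5c1a744864282227126fa9c29a5d4b63606920762822274c8cb40325dd14798ed4a87528222756cb2342865e4fa1cd0524732822273d845a02db5e159a55231c7428222751766483025db3aa9283986f282220b1f3a25c7ac4d62224a8344b016e30ae957a9c69c4e4b49096c04c016e30926fa99caa452b641a744856016e30dab499dc97c54c5b60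692044016e30d6cb241d26450fa18ed4a853016e30cc8cb35c85c65479cd052455016e30d176621cd24613aa55231c4f016e30bd845c9d0b45b59a92839854016e31bd845a447b14d59a24a835d4bc4011d17662846214f3ac9096c1cfbc4011cc8cb184a595347c1a7449d5bc4011d6cb21c496154fa3606921d3bc4011dab49c0527950c598ed4a9c4bc4011926fab448a164b61cd0525d6bc4011ae957a04d99604b255231dccbc4011b1f3a4850a95b622928399cbbc4011517662467200d3aa24a8342f8dcae13d845a866b00f59c9096c0348dcae156cb2186a6012fa41a7448338dcae14c8cb1c69581547b606920358dcae1126fac072a010b618ed4a8368dcae15ab49b4687824c59cd0524248dcae131f3a206da82162255231c2b8dcae12e957c870981a4b29283982c8dcae8cc8cb26e7584d47a24a8341510dc58d6cb22ae6604efa49096c01310dc58bd8459aeab05359c1a74481410dc58d17661ee920553ab6069200f10dc58ae957c2f298504b18ed4a80c10dc58b1f3a36e8a865621cd05240b10dc58dab49a2ed7860c5a55231c0410dc58926facaf0a05ab629283981610dc5bd6cb22627638cfa224a834b318820bcc8cb2a265b8f47c9096c0b518820bd17661a2a23933ac1a7448af18820bbd8459e29b39559b606920b418820bb1f3a4232ab916218ed4a8ab18820bae957b6289ba44b1cd0524ac18820b926faa22da3a0b6255231cb618820bdab49ca307b9ac5a928398a418820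 j

/-- A complement `D₈ × 2` to `2⁶` in a Sylow 2-subgroup; `dP i` fixes the octads iff `i < 8`. -/
def dP (i : ℕ) : ℕ := CQ.tb 0x1c1476901590586459f45cc49746e50aa0833c5648e6d3d48ba3012b95d189d1094ef4695e952d95b11c610c01749263d8a455d686beac9d230080622a0ea4b1cb3449285276abeed00443134c982c33402ca9328f254672de2e019b25506c38ab04cd647d8288b8b7ba64d4562f83a87312d362caa188201bc8ca2812a84eb9a60d32056746e5091f35c049b0d146494669c15b95d18b26faa2eda1616218f24a9cb10c01756cb624aa25cd3a42474362f080622cd84b1dc65c5557b509942f400443151767982898124a9db05486c2de2e02e952346760a4fb20ca824338b8b7bdab49ca307b9ac5a928398a418820 i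

/-- A complement `L₃(2)` to `2⁶` in the stabiliser of the three octads (168 elements). -/
def lP (i : ℕ) : ℕ := CQ.tb 0xbda8f9b472a860b21d28328ac1440ebd9f59c04da02446192851cab88dc1bd5ec9c04a204ebb364832634700a3bd58499dd079556a1a484b62b00861bd48f9a80760e145a64869a3613825bd2ab9ca27600c4b41a85246f0b8a2bd19599dc658a4f225a88287688405bd16c99832a94f67a9a84c06474440bbe849b4665b94cb4a083a455004b1bbd749982a245b56260891c56181c5bbc8b9a80da14d6a9e084c84c08e2ebb2cb9a4b07c4d5234e8929d408803bb1f69c04658d34aa8e86c9c428620bb16f99829b0204a48e8535d511471baec49a4b2a8d54640c869c2f045c2baeb69ca2a2092fa1cc88342c2806ebac959a809b3a4c7b4c83c03489443b92cc9a4ada08ef5c9488181570c31b92969b46764535799489400b2b841b919499dc9b05abac1483480f196228da8cab46a208ef99932820ab702e18d984a9dcda5d535c132418af00c228d894aa807605ab7a132340b31b8578d1ebac04a214d6621b249c73081d78d164a98307b94c9a5b23a07600ae58d08faa8065de13b1db24246c104ae8cecbaa4ada38cc7a9123c2e408c408ce96ab46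6581246411251eef285c28cd74a9829b09af21d1282aec1940e8bed3aa4aa20d1459e126984cb802e8be64aa2e9b054b6361231c54015c38bc96aa8089b92ca1a123b44b2dc618b293ab4707850bb28f2325c4b88a08b26faa2eda1616218f24a9cb10c018b1f4ac048981a45a4f2519d61dc258aecfaa4a7602049b4d25203413ae38adecac049b5cf3a28d243424714608ad96a9dd078d34220d26a833288178926caa2e658cf47a5526c016704458918ba9dc8988cfb3552824140dca389173a982761516a41524b40fbb86275a6f622ea246155b527918b410023759e4640489854ba4927334b505c71758936281078d14a99276c8abb8a21756cb624aa25cd3a42474362f080627556461829b0d547a2476c2330145775496628065892f9b64782234286e3752d5624b0782445a1a75187388837752af64a29b060b9a9a732064116e0751f664052add33219a74286b2c40174eb464a2a215b6799074c2eb1804174e8463472a894f5a50781af60442574c956280da064bb4107326ef88ca273eb364a2658104a260753456b846573e6b622f2a8cd4b2a076a4440c4a073d756182899656236074a8548dc0372ed4624a8989afaa8c7848241de2072e9363469b4515240c79282fb940272e76622eda01247c8c7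5403528c517128b63470794d69c9474a01508af1711f4640465c5b5b214792413184b77116f6182da5e13aa5474481610e252d66fb22e65ba0ca2a493b624104602d5ebb404898cd421e496aa2c0dc0e2d573b1830781046364951e34b89c32d2a4b4a289894f619a981c6b05dc12d275b22ea2064b79da93406c8804e2d093b2812ab90c5c1a93986fbc4222cd84b1dc65c5557b509942f4004432cd6cb182a20cf4ac1096caef702222cc8bb2807608cfa4909836f50b8712be8cb34689c4f55aa099184475c202be74b22e7601a4a9a095484b1ba212bd93b1dcda050b24a0932855b8c112b2b4b4a265ddb3240e9429cf184022b28bb3472a80c47a0e9541d30c4572b175b182da0a4f9a8e9821c488ee02ae8fb346a25e13648c941c35101d12ade4b404da394caa0c93c83300e372ac94b28107c5b599cc99202c18aee292acb4a30784eba21493341370877291f5b404765e535b549418148b8232918fb1dd2a8e14999496a00b146e11d9eba4047644d59a92d920a40bae01d98fa1dc658204aa12d548b3106371d96ca18307dcf32492d428b5708111d6d3a24a76090f21a4d82a2bbb8011d66ca22e9b00e45c24d51a2f714221d596a1dc89852b7aa4d342242dc401cec4a24b07854ba9d0d34aec00a2e1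cdf6a404a2392c5c90d39af5280311cc8fa2809b46156190d91eeb115c11bea4a4a27615565a20d49853038371bd95a1dca25e53b1a0d4244b880a11bc8ca2812a84eb9a60d32056746e51b26ba22ea208cfaa4ed849d6082251b164a18289c555b40ed925cf05ca21b093a2806595167c8ed4c1d5b84511aeafa4a289ba0c224cd3a83615c051ae75a22f079656628cd49c24889c01adf3a4052a8104b1ccd5242cbc4ae192d5a24a65ba4c9c14d3a00f886e2192aba4a29b5cd379d4d4400c0944e19176a1832a892f6214d81c132c5d715aa47ca2658d5499d306a0ac006ee159757982a23a4ca21303b4b3880771588b7a812adcd36353041cb40c5c31568c7b466594f6222504aa33704171558b79dcda00c49a6505223608ee5155747982765db3b2a50426241b8a0152d37a4a65c515629b091c64b85c01526b7a2e9b38cc249b03a87509411151767982898124a9db05486c2de2e14ecc7a4b2a80e4a1910536eb7446114eb67ca276052b2351032af42b80314d9579dc9b0e545a91069ae489420132d47a4aa205ab9c8f0321d5182f1132847b469b5d53a98f0449cb01621130967a80da45355a0f0919d328c3712e647a2e764555a24d0934360386512d9379dca21516ab4d04c834b822312c8c7a80898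cf4b48d06a43575cb1112b37ca2da390cb19503a40bb8ca1112957b4689864b6255031c168ddc5112747a2f2a95b659d504980c1c42e0daac5ca28980e47b526540b475c430da755a2e760e54241266a8af8b8020d99359dd2a890fa2926834a4bc4600d6935b46a2390c7a6463c236b80450d6645a2eda094fb1e468262c00cae0d4945a808995b66424649e2f1ddc20d2c45a4a765d537c9a644075038510d19659dca245359c1a69206f282e20d08c5a809b08efaa1a684873716370ce8f5b46761616aa9064cae413a200cdec5c04da44f52250692af670c050cd9459dd0781a4b4906526f5188b10bed45a4b2ab9ac222063a8531c4170beb65ca2da5d3362a0641c4428dc00be955b469b024499e065204c896ee0b2af5ca2a20e14b20e66a5d3100b70b1e45c052a95569b4e64a1d4046e30b0955a8107de53a24e6435d688865092cf5a4a89c615a1d469340c15c6e092765a2f07b92cab5463c81428a23091f35c049b0d146494669c15b95d105a8b234689b8ccac12a3c8af0de2205a74222e6589af6492a81cb5185d1059732182da451579d2a940acb8c4e056cf224ada060b6224a31e3310dd705696234707dd3359e4a41a2c2882e055f424049b39ac99a4a3a22b196e10526c222f07c4f5b19aa9246b708a1051f3240476050baa5aa34876bba250518f21dc8996165c9aa4987515c3104eab24a3078cd46250a69ef6089c504df52404659656a1d0a4b6ec8846e04d6f21832aba0cb350a3a6f4144a303ecc224a65dcf3ab60a448547062303d8b21dc9b44d5a220a934530947703d762182760d349ca0a6a0552baf1032d5224a898e54798ea6c1cb8dc41032b324a29b090f5b4ea819d4b942303276222f2a852ba40ea335cf2c46202eac24a2da14f69c0ca4a02f70ee202e952346760a4fb20ca824338b8b702d9421dd2addb37a4ca440361c445bdab49ca307b9ac5a928398a418820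 i

/-- Elements commuting with `nP j` without fixed vector on `V / W`. -/
def gP (j : ℕ) : ℕ := CQ.tb 0x10ca8202795daf5b289b4c75889c5010c7828a86b933b3d72a30358dc43010cba3dcc6de1355a474d42819622010ec45aed98930548d4aacaf88dc1010e84ce366dd957ca143286b105c5010d26502a996cd7d51059ee91b851010c8b2af5785b2a256c84c67888ae010c79ac52ab990b51487a62d0dca3012663c828a8d966d12b53dd0b88b1010caab46c7dd1259e764d03070a25010cf640276b973922b4b2ae911471010cb6d469a5e4851e1663e3371422010c86c0725392ba5aa77b233b84a2010c9449ca85db5659e75cc541c4a1010c83b4699054fa567062ef628a2ebdab49ca307b9ac5a928398a418820 j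

/-- An element of order 15 in the octad stabiliser. -/
def sP : ℕ := 5444899854077378291961500501446190

/-- `sP` and `g2` generate the octad stabiliser. -/
def g2 : ℕ := 137890572562008823632825451839308801

/-- An element of order three cycling the trio. -/
def om : ℕ := 339491712732891818726410240087474378

/-- The code word with coordinate `k < 2048`: `z` is `1`, `u` is `2`, `U, W, E` are
`k < 4, 32, 256`. -/
def sy (k : ℕ) : ℕ := xorComb [8536111, 337856, 628112, 3216208, 1161408, 8966165, 4900873, 1103886, 5279, 10558, 36294] k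

/-- The coordinate of a code word. -/
def co (m : ℕ) : ℕ := xorComb [524, 869, 425, 458, 901, 267, 1739, 1373, 14, 1352, 1746, 902] (Nat.land m 4095)

/-- The action of a packed permutation on coordinates. -/
def ak (p k : ℕ) : ℕ := co (apM p (sy k))

/-- The coordinate of a commutator. -/
def dl (p k : ℕ) : ℕ := Nat.xor (ak p k) k

/-- The element of `V` with coordinate `k`. -/
def w (v : Finset GolayPt → G) (k : ℕ) : G := v (maskSet (sy k))

theorem nP_eq_1' : type_of% @nP.eq_1 := @nP.eq_1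
theorem yP_eq_1' : type_of% @yP.eq_1 := @yP.eq_1
theorem dP_eq_1' : type_of% @dP.eq_1 := @dP.eq_1
theorem lP_eq_1' : type_of% @lP.eq_1 := @lP.eq_1
theorem gP_eq_1' : type_of% @gP.eq_1 := @gP.eq_1
theorem sP_eq_1' : type_of% @sP.eq_1 := @sP.eq_1
theorem g2_eq_1' : type_of% @g2.eq_1 := @g2.eq_1
theorem om_eq_1' : type_of% @om.eq_1 := @om.eq_1
theorem sy_eq_1' : type_of% @sy.eq_1 := @sy.eq_1
theorem co_eq_1' : type_of% @co.eq_1 := @co.eq_1
theorem ak_eq_1' : type_of% @ak.eq_1 := @ak.eq_1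
theorem dl_eq_1' : type_of% @dl.eq_1 := @dl.eq_1
theorem w_eq_1' : type_of% @w.eq_1.{u} := @w.eq_1.{u}

theorem dl_eq (p k : ℕ) : dl p k = ak p k ^^^ k := rfl

attribute [irreducible] nP yP dP lP gP sP g2 om sy co ak

theorem gol_sy : ∀ k, k < 2048 → isGolay (sy k) = true ∧ co (sy k) = k ∧
    (sy k = 0 ∨ sy k = 16777215 → k = 0) := fun k hk => by
  have := allLT_iff.1 (by decide +kernel : allLT 2048 (fun k => isGolay (sy k) &&
    Nat.beq (co (sy k)) k && (Nat.beq k 0 || !Nat.beq (sy k) 0 && !Nat.beq (sy k) 16777215)) = true)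
    k hk
  simp only [Bool.and_eq_true, Nat.beq_eq, Bool.or_eq_true, Bool.not_eq_true', ← Bool.not_eq_true]
    at this
  exact ⟨this.1.1, this.1.2, fun h => by tauto⟩

theorem sy_co {m : ℕ} (h : isGolay m = true) :
    co m < 2048 ∧ (sy (co m) = m ∨ sy (co m) = m ^^^ 16777215) := by
  obtain ⟨k, hk, rfl⟩ := isGolay_iff.1 h
  have := allLT_iff.1 (by decide +kernel : allLT 4096 (fun k => force (enc k) fun m =>
    force (co m) fun c => Nat.blt c 2048 && (Nat.beq (sy c) m ||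
      Nat.beq (sy c) (Nat.xor m 16777215))) = true) k hk
  simpa using this

theorem is_n : ∀ j < 16, isM24 (nP j) = true := by decide +kernel
theorem is_y : ∀ j < 64, isM24 (yP j) = true := by decide +kernel
theorem is_d : ∀ i < 16, isM24 (dP i) = true := by decide +kernel
theorem is_l : ∀ i < 168, isM24 (lP i) = true := fun i hi =>
  allLT_iff.1 (by decide +kernel : allLT 168 (fun i => isM24 (lP i)) = true) i hi
theorem is_g : ∀ j < 16, isM24 (gP j) = true := by decide +kernel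
theorem is_s : isM24 sP = true := by decide +kernel
theorem is_g2 : isM24 g2 = true := by decide +kernel
theorem is_om : isM24 om = true := by decide +kernel

theorem n_mul : ∀ a < 16, ∀ b < 16, pmul (nP a) (nP b) = nP (a ^^^ b) := by decide +kernel

theorem y_mul : ∀ a < 64, ∀ b < 64, pmul (yP a) (yP b) = yP (a ^^^ b) := fun a ha b hb => by
  have := allLT_iff.1 (by decide +kernel : allLT 64 (fun a => force (yP a) fun p =>
    allLT 64 fun b => Nat.beq (pmul p (yP b)) (yP (Nat.xor a b))) = true) a ha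
  rw [force_eq] at this
  exact Nat.eq_of_beq_eq_true (allLT_iff.1 this b hb)

theorem d_mul : ∀ a < 16, ∀ b < 16, ∃ c < 16, pmul (dP a) (dP b) = dP c := by decide +kernel

theorem d_y : ∀ i < 16, ∀ j < 64, ∃ k < 64, pconj (dP i) (yP j) = yP k := fun i hi j hj => by
  have := allLT_iff.1 (allLT_iff.1 (by decide +kernel : allLT 16 (fun i => allLT 64 fun j =>
    force (pconj (dP i) (yP j)) fun p => !allLT 64 fun k => !Nat.beq p (yP k)) = true) i hi) j hj
  simpa [← Bool.not_eq_true, allLT_iff] using this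

theorem n_zero : nP 0 = pid := by decide +kernel
theorem y_zero : yP 0 = pid := by decide +kernel
theorem d_zero : dP 0 = pid := by decide +kernel
theorem n_y : ∀ j < 8, nP j = yP j := by decide +kernel
theorem n_d : ∀ j < 8, nP (j + 8) = pmul (yP j) (dP 8) := by decide +kernel
theorem y_dec : ∀ j < 64, yP j = pmul (nP (j % 8)) (pconj om (nP (j / 8))) := by decide +kernel
theorem sy_one : sy 1 = 8536111 := by decide +kernel
theorem sy_two : sy 2 = 337856 := by decide +kernel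

variable [Finite G] {V : Subgroup G} {v : Finset GolayPt → G} {ρ : G → Equiv.Perm GolayPt}
  (c : Cod V v ρ)
include c

theorem commV {a b : G} (ha : a ∈ V) (hb : b ∈ V) : a * b = b * a := by
  have h1 := c.sqV a ha
  have h2 := c.sqV b hb
  have h3 := c.sqV _ (mul_mem ha hb)
  calc a * b = a * b * (a * b) * (b * a) := by
        rw [show a * b * (a * b) * (b * a) = a * b * (a * (b * b) * a) by group, h2, mul_one, h1,
          mul_one]
    _ = b * a := by rw [h3, one_mul]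

theorem invV {a : G} (ha : a ∈ V) : a⁻¹ = a := inv_eq_of_mul_eq_one_right (c.sqV a ha)

theorem V_le : V ≤ Ns V := le_normalizer

theorem ρ_one : ρ 1 = 1 := (c.ρ_eq_one 1 (one_mem _)).2 (one_mem _)

theorem ρ_inv {a : G} (ha : a ∈ Ns V) : ρ a⁻¹ = (ρ a)⁻¹ :=
  eq_inv_of_mul_eq_one_left (by rw [← c.ρ_mul _ (inv_mem ha) _ ha, inv_mul_cancel, ρ_one c])

theorem ρ_pow {a : G} (ha : a ∈ Ns V) (n : ℕ) : ρ (a ^ n) = ρ a ^ n := by
  induction n with
  | zero => rw [pow_zero, pow_zero, ρ_one c]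
  | succ n ih => rw [pow_succ, pow_succ, c.ρ_mul _ (pow_mem ha n) _ ha, ih]

theorem ρ_conj {a b : G} (ha : a ∈ Ns V) (hb : b ∈ Ns V) :
    ρ (a * b * a⁻¹) = ρ a * ρ b * (ρ a)⁻¹ := by
  rw [c.ρ_mul _ (mul_mem ha hb) _ (inv_mem ha), c.ρ_mul _ ha _ hb, ρ_inv c ha]

theorem ρ_eq_iff {a b : G} (ha : a ∈ Ns V) (hb : b ∈ Ns V) : ρ a = ρ b ↔ a * b⁻¹ ∈ V := by
  rw [← c.ρ_eq_one _ (mul_mem ha (inv_mem hb)), c.ρ_mul _ ha _ (inv_mem hb), ρ_inv c hb,
    mul_inv_eq_one]

theorem rep_mul {a b : G} (ha : a ∈ Ns V) (hb : b ∈ Ns V) {p q : ℕ} (h1 : Rep (ρ a) p)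
    (h2 : Rep (ρ b) q) : Rep (ρ (a * b)) (pmul p q) := by
  rw [c.ρ_mul _ ha _ hb]; exact h1.mul h2

theorem rep_inv {a : G} (ha : a ∈ Ns V) {p : ℕ} (h1 : Rep (ρ a) p) : Rep (ρ a⁻¹) (pinv p) := by
  rw [ρ_inv c ha]; exact h1.inv

theorem rep_pow {a : G} (ha : a ∈ Ns V) {p : ℕ} (h1 : Rep (ρ a) p) (n : ℕ) :
    Rep (ρ (a ^ n)) (ppow p n) := by
  rw [ρ_pow c ha]; exact h1.pow n

theorem rep_conj {a b : G} (ha : a ∈ Ns V) (hb : b ∈ Ns V) {p q : ℕ} (h1 : Rep (ρ a) p)
    (h2 : Rep (ρ b) q) : Rep (ρ (a * b * a⁻¹)) (pconj p q) := by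
  rw [ρ_conj c ha hb]; exact h1.conj h2

theorem mem_V_iff {a : G} (ha : a ∈ Ns V) {p : ℕ} (h : Rep (ρ a) p) :
    a ∈ V ↔ peq p pid = true := by
  rw [← c.ρ_eq_one a ha]; exact h.eq_iff rep_one

theorem rep_V {a : G} (ha : a ∈ V) : Rep (ρ a) pid := by
  rw [(c.ρ_eq_one a (V_le c ha)).2 ha]; exact rep_one

omit [Finite G] in
theorem w_xor (a b : ℕ) : w v (a ^^^ b) = w v a * w v b := by
  rw [w, w, w, sy, sy, sy, xorComb_xor, maskSet_xor, c.mul]

omit [Finite G] in
theorem w_zero : w v 0 = 1 := by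
  rw [w, sy, xorComb_zero, maskSet_zero]; exact (c.eq_one _ empty_mem_golaySets).2 (.inl rfl)

omit [Finite G] in
theorem w_mem {k : ℕ} (hk : k < 2048) : w v k ∈ V :=
  (c.mem _).2 ⟨_, maskSet_mem_golaySets (gol_sy k hk).1, rfl⟩

theorem w_co {m : ℕ} (h : isGolay m = true) : w v (co m) = v (maskSet m) := by
  rcases (sy_co h).2 with e | e <;> rw [w, e]
  rw [maskSet_compl, c.compl]

theorem w_surj {g : G} (hg : g ∈ V) : ∃ k < 2048, w v k = g := by
  obtain ⟨A, hA, rfl⟩ := (c.mem g).1 hg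
  obtain ⟨m, hm, rfl⟩ := mem_golaySets_iff.1 hA
  exact ⟨co m, (sy_co hm).1, w_co c hm⟩

omit [Finite G] in
theorem w_eq_one {k : ℕ} (hk : k < 2048) : w v k = 1 ↔ k = 0 := by
  refine ⟨fun e => ?_, fun e => e ▸ w_zero c⟩
  have g := gol_sy k hk
  refine g.2.2 (((c.eq_one _ (maskSet_mem_golaySets g.1)).1 e).imp (fun e => ?_) fun e => ?_)
  · exact maskSet_injOn (isGolay_lt g.1) (by norm_num) (e.trans maskSet_zero.symm)
  · exact maskSet_injOn (isGolay_lt g.1) (by norm_num) (e.trans maskSet_full.symm)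

theorem w_inj {k l : ℕ} (hk : k < 2048) (hl : l < 2048) (e : w v k = w v l) : k = l := by
  have := (w_eq_one c (Nat.xor_lt_two_pow (n := 11) hk hl)).1
    (by rw [w_xor c, e, c.sqV _ (w_mem c hl)])
  exact Nat.xor_eq_zero_iff.1 this

theorem conj_w {n : G} (hn : n ∈ Ns V) {p : ℕ} (h : Rep (ρ n) p) {k : ℕ} (hk : k < 2048) :
    n * w v k * n⁻¹ = w v (ak p k) ∧ ak p k < 2048 := by
  have := c.gen.conj n hn p h _ (gol_sy k hk).1
  exact ⟨by rw [ak, w_co c this.2]; exact this.1, by rw [ak]; exact (sy_co this.2).1⟩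

theorem comm_w {n : G} (hn : n ∈ Ns V) {p : ℕ} (h : Rep (ρ n) p) {k : ℕ} (hk : k < 2048) :
    ⁅n, w v k⁆ = w v (dl p k) ∧ ⁅w v k, n⁆ = w v (dl p k) ∧ dl p k < 2048 := by
  have h1 := conj_w c hn h hk
  have h2 : dl p k < 2048 := Nat.xor_lt_two_pow (n := 11) h1.2 hk
  have h3 : ⁅n, w v k⁆ = w v (dl p k) := by
    rw [commutatorElement_def, h1.1, invV c (w_mem c hk), dl_eq, w_xor c]
  exact ⟨h3, by rw [← commutatorElement_inv, h3, invV c (w_mem c h2)], h2⟩

theorem w_zp {k : ℕ} (hk : k < 2048) : w v k ∈ zpowers (w v 1) ↔ k < 2 := by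
  refine ⟨fun ⟨n, e⟩ => ?_, fun h => ?_⟩
  · have z2 : w v 1 ^ (2 : ℤ) = 1 := by rw [zpow_two, c.sqV _ (w_mem c (by norm_num))]
    have e' : w v 1 ^ n = w v k := e
    rcases Int.even_or_odd' n with ⟨j, rfl | rfl⟩
    · rw [zpow_mul, z2, one_zpow, ← w_zero c] at e'
      rw [← w_inj c (by norm_num) hk e']; norm_num
    · rw [zpow_add_one, zpow_mul, z2, one_zpow, one_mul] at e'
      rw [← w_inj c (by norm_num) hk e']; norm_num
  · interval_cases k
    exacts [w_zero c ▸ one_mem _, mem_zpowers _]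

theorem lift {p : ℕ} (h : isM24 p = true) : ∃ n ∈ Ns V, Rep (ρ n) p := by
  obtain ⟨n, hn, e⟩ := c.ρ_surj _ (toPerm_mem_M24 h)
  exact ⟨n, hn, e ▸ rep_of_isM24 h⟩

theorem ak_lt {p k : ℕ} (hp : isM24 p = true) (hk : k < 2048) : ak p k < 2048 := by
  obtain ⟨n, hn, r⟩ := lift c hp
  exact (conj_w c hn r hk).2

theorem ak_xor {p k l : ℕ} (hp : isM24 p = true) (hk : k < 2048) (hl : l < 2048) :
    ak p (k ^^^ l) = ak p k ^^^ ak p l := by
  obtain ⟨n, hn, r⟩ := lift c hp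
  have h1 := conj_w c hn r hk
  have h2 := conj_w c hn r hl
  have h3 := conj_w c hn r (Nat.xor_lt_two_pow (n := 11) hk hl)
  refine w_inj c h3.2 (Nat.xor_lt_two_pow (n := 11) h1.2 h2.2) ?_
  rw [← h3.1, w_xor c, w_xor c, ← h1.1, ← h2.1]; group

theorem cen_w {n : G} (hn : n ∈ Ns V) {p : ℕ} (h : Rep (ρ n) p) {k : ℕ} (hk : k < 2048) :
    n ∈ C1 (w v k) ↔ ak p k = k := by
  have h1 := conj_w c hn h hk
  rw [mem_C1, ← mul_inv_eq_iff_eq_mul, h1.1]
  exact ⟨w_inj c h1.2 hk, fun e => by rw [e]⟩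

/-- The elements of `V` with coordinate below `2 ^ n`. -/
def sub (n : ℕ) : Subgroup G := R10.CA.mkSub (fun g => ∃ k < 2 ^ n, w v k = g)
  ⟨0, Nat.two_pow_pos n, w_zero c⟩ (by
  rintro _ _ ⟨a, ha, rfl⟩ ⟨b, hb, rfl⟩
  exact ⟨_, Nat.xor_lt_two_pow ha hb, w_xor c a b⟩)

/-- The subgroup `O = V.2⁴`. -/
def OO : Subgroup G := R10.CA.mkSub (fun g => g ∈ Ns V ∧ ∃ j < 16, Rep (ρ g) (nP j))
  ⟨one_mem _, 0, by norm_num, by rw [ρ_one c, n_zero]; exact rep_one⟩ (by
  rintro g h ⟨hg, a, ha, ra⟩ ⟨hh, b, hb, rb⟩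
  exact ⟨mul_mem hg hh, _, Nat.xor_lt_two_pow (n := 4) ha hb, by
    rw [← n_mul a ha b hb]; exact rep_mul c hg hh ra rb⟩)

/-- The subgroup `Y = V.2⁶`. -/
def YY : Subgroup G := R10.CA.mkSub (fun g => g ∈ Ns V ∧ ∃ j < 64, Rep (ρ g) (yP j))
  ⟨one_mem _, 0, by norm_num, by rw [ρ_one c, y_zero]; exact rep_one⟩ (by
  rintro g h ⟨hg, a, ha, ra⟩ ⟨hh, b, hb, rb⟩
  exact ⟨mul_mem hg hh, _, Nat.xor_lt_two_pow (n := 6) ha hb, by
    rw [← y_mul a ha b hb]; exact rep_mul c hg hh ra rb⟩)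

/-- The Sylow 2-subgroup `T = V.2⁶.(D₈ × 2)` of `N(V)`. -/
def TT : Subgroup G := R10.CA.mkSub
  (fun g => g ∈ Ns V ∧ ∃ j < 64, ∃ i < 16, ρ g = toPerm (yP j) * toPerm (dP i))
  ⟨one_mem _, 0, by norm_num, 0, by norm_num, by
    rw [ρ_one c, y_zero, d_zero, rep_one.toPerm_eq, mul_one]⟩ (by
  rintro g h ⟨hg, a, ha, i, hi, ra⟩ ⟨hh, b, hb, l, hl, rb⟩
  obtain ⟨k, hk, e1⟩ := d_y i hi b hb
  obtain ⟨m, hm, e2⟩ := d_mul i hi l hl
  have r1 := rep_of_isM24 (is_d i hi)
  refine ⟨mul_mem hg hh, _, Nat.xor_lt_two_pow (n := 6) ha hk, m, hm, ?_⟩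
  rw [c.ρ_mul g hg h hh, ra, rb, ← y_mul a ha k hk, ← e2,
    ((rep_of_isM24 (is_y a ha)).mul (rep_of_isM24 (is_y k hk))).toPerm_eq, ← e1,
    (r1.conj (rep_of_isM24 (is_y b hb))).toPerm_eq, (r1.mul (rep_of_isM24 (is_d l hl))).toPerm_eq]
  group)

theorem sub_eq_1' : type_of% @sub.eq_1.{u} := @sub.eq_1.{u}
theorem OO_eq_1' : type_of% @OO.eq_1.{u} := @OO.eq_1.{u}
theorem YY_eq_1' : type_of% @YY.eq_1.{u} := @YY.eq_1.{u}
theorem TT_eq_1' : type_of% @TT.eq_1.{u} := @TT.eq_1.{u}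

theorem mem_sub {n : ℕ} {g : G} : g ∈ sub c n ↔ ∃ k < 2 ^ n, w v k = g := Iff.rfl

theorem mem_OO {g : G} : g ∈ OO c ↔ g ∈ Ns V ∧ ∃ j < 16, Rep (ρ g) (nP j) := Iff.rfl

theorem mem_YY {g : G} : g ∈ YY c ↔ g ∈ Ns V ∧ ∃ j < 64, Rep (ρ g) (yP j) := Iff.rfl

theorem mem_TT {g : G} : g ∈ TT c ↔
    g ∈ Ns V ∧ ∃ j < 64, ∃ i < 16, ρ g = toPerm (yP j) * toPerm (dP i) := Iff.rfl

theorem w_sub {n k : ℕ} (hn : n ≤ 11) (hk : k < 2048) : w v k ∈ sub c n ↔ k < 2 ^ n :=
  ⟨fun ⟨l, hl, e⟩ => w_inj c (hl.trans_le (Nat.pow_le_pow_right (by norm_num) hn)) hk e ▸ hl,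
    fun h => ⟨k, h, rfl⟩⟩

theorem TT_dec {t : G} (ht : t ∈ TT c) :
    t ∈ Ns V ∧ ∃ j < 64, ∃ i < 16, Rep (ρ t) (pmul (yP j) (dP i)) := by
  obtain ⟨hn, j, hj, i, hi, e⟩ := ht
  exact ⟨hn, j, hj, i, hi, e ▸ (rep_of_isM24 (is_y j hj)).mul (rep_of_isM24 (is_d i hi))⟩

/-- The elements `ω` and `s`. -/
structure IsW (V : Subgroup G) (ρ : G → Equiv.Perm GolayPt) (ω s : G) : Prop where
  ωm : ω ∈ Ns V
  ωr : Rep (ρ ω) om
  ω3 : ω ^ 3 = 1
  sm : s ∈ Ns V
  sr : Rep (ρ s) sP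

theorem exists_W : ∃ ω s, IsW V ρ ω s := by
  obtain ⟨n, hn, e⟩ := lift c is_om
  obtain ⟨s, hs, e'⟩ := lift c is_s
  have h3 : ρ n ^ 3 = 1 := (e.pow_eq_one_iff 3).2 (by decide +kernel)
  have h4 := c.sqV _ ((c.ρ_eq_one _ (pow_mem hn 3)).1 (by rw [ρ_pow c hn, h3]))
  refine ⟨n ^ 4, s, pow_mem hn 4, by rwa [ρ_pow c hn, pow_succ, h3, one_mul], ?_, hs, e'⟩
  rw [← pow_mul, show 4 * 3 = (3 + 3) * 2 from rfl, pow_mul, pow_add, h4, one_pow]

end GD

end Cfsg.Lib.R11
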