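import Cfsg.Agent.R11.SD3
import Cfsg.Agent.R10.SC4

/-! Strong closure of a weakly closed extraspecial group in the centraliser of its centre. -/

set_option autoImplicit false
set_option linter.unusedSectionVars false
set_option linter.unusedVariables false

namespace Cfsg.Lib.R11.SD

open Subgroup Cfsg.Lib.Trans Cfsg.Lib.Gold Cfsg.Lib.Solv
open Cfsg.Lib.R10.SC.SC4 (eps eps_one eps_zero eps_congr eps_mul)
open scoped commutatorElement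

universe u

namespace SD4

/-- One of the two conclusions. -/
def Rs {H : Type u} [Group H] (A B : Subgroup H) (r : H) : Prop :=
  ∃ a ∈ A, a ∉ C1 r ∧ ∀ b ∈ B ⊓ C1 r, ∀ b' ∈ B ⊓ C1 r,
    Commute (a * b * a⁻¹ * b⁻¹) (a * b' * a⁻¹ * b'⁻¹)

/-- The hypothesis on a pair of conjugates. -/
def EX {H : Type u} [Group H] (z : H) (A B : Subgroup H) : Prop :=
  ∀ r ∈ A ⊓ B, r ∉ zpowers z → B ⊓ C1 r ≤ Ns A → A ⊓ C1 r ≤ Ns B → ¬ B ⊓ C1 r ≤ A →
    (∀ c ∈ A ⊓ C1 r, ∀ b ∈ B ⊓ C1 r, c * b * c⁻¹ * b⁻¹ ∈ closure {z, r}) → Rs A B r ∨ Rs B A r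

theorem Rs_eq_1' : type_of% @Rs.eq_1.{u} := @Rs.eq_1.{u}
theorem EX_eq_1' : type_of% @EX.eq_1.{u} := @EX.eq_1.{u}

theorem EX.pull {H G : Type u} [Group H] [Group G] {ψ : H →* G} (hψ : Function.Injective ψ) {z : H}
    {A B : Subgroup H} (e : EX (ψ z) (A.map ψ) (B.map ψ)) : EX z A B := by
  intro r hr h1 h2 h3 h4 h5
  have c1 : ∀ {b}, ψ b ∈ C1 (ψ r) ↔ b ∈ C1 r := fun {b} => by
    rw [mem_C1, mem_C1, ← map_mul, ← map_mul, hψ.eq_iff]
  have k1 : ∀ {A B : Subgroup H}, B ⊓ C1 r ≤ Ns A → B.map ψ ⊓ C1 (ψ r) ≤ Ns (A.map ψ) := by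
    rintro A B k _ ⟨⟨b, hb, rfl⟩, hc⟩
    exact le_normalizer_map ψ (mem_map_of_mem ψ (k ⟨hb, c1.1 hc⟩))
  have k2 : ∀ {A B : Subgroup H}, Rs (A.map ψ) (B.map ψ) (ψ r) → Rs A B r := by
    rintro A B ⟨_, ⟨a, ha, rfl⟩, n, k⟩
    refine ⟨a, ha, fun c => n (c1.2 c), fun b hb b' hb' => Commute.of_map hψ ?_⟩
    simpa only [map_mul, map_inv] using k _ ⟨mem_map_of_mem ψ hb.1, c1.2 hb.2⟩ _
      ⟨mem_map_of_mem ψ hb'.1, c1.2 hb'.2⟩
  refine (e (ψ r) ⟨mem_map_of_mem ψ hr.1, mem_map_of_mem ψ hr.2⟩ ?_ (k1 h2) (k1 h3)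
    (fun c => h4 fun b hb => (mem_map_iff_mem hψ).1 (c ⟨mem_map_of_mem ψ hb.1, c1.2 hb.2⟩))
    ?_).imp k2 k2
  · rintro ⟨n, k⟩
    exact h1 ⟨n, hψ (by simpa using k)⟩
  · rintro _ ⟨⟨c, hc, rfl⟩, hc'⟩ _ ⟨⟨b, hb, rfl⟩, hb'⟩
    have := mem_map_of_mem ψ (h5 c ⟨hc, c1.1 hc'⟩ b ⟨hb, c1.1 hb'⟩)
    rwa [MonoidHom.map_closure, Set.image_pair, map_mul, map_mul, map_mul, map_inv, map_inv] at this

variable {H X : Type u} [Group H] [Finite H] [Group X] [Finite X] {z c d : H} {φ : H →* X}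
  {Q S T : Subgroup H}

theorem core (zc : ∀ x, x * z = z * x) (z2 : z * z = 1) (hs : Function.Surjective φ)
    (hk : ∀ x, φ x = 1 ↔ x = 1 ∨ x = z) (zQ : z ∈ Q) (sq : ∀ x ∈ Q, x * x = 1 ∨ x * x = z)
    (cen : ∀ x ∈ Q, (∀ y ∈ Q, x * y = y * x) → x = 1 ∨ x = z) (hS : IsSylowIn 2 S ⊤) (QS : Q ≤ S)
    (wc : ∀ g, cj g Q ≤ S → cj g Q = Q) 
    (n1 : ∀ s ∈ S, s ∉ Q → ∀ C : Subgroup H, C ≤ Q → (∀ c ∈ C, c * s * c⁻¹ * s⁻¹ ∈ zpowers z) →
      2 * Nat.card C < Nat.card Q)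
    (ex : ∀ g, SD4.EX z Q (cj g Q)) :
    ∀ x ∈ Q, ∀ g, g * x * g⁻¹ ∈ S → g * x * g⁻¹ ∈ Q := by
  have ce : ∀ {c}, c = 1 ∨ c = z → ∀ w, Commute w c := fun {c} e w => by
    rcases e with rfl | rfl
    exacts [Commute.one_right w, zc w]
  have lf : ∀ {a x}, φ a = φ x → ∃ c, (c = 1 ∨ c = z) ∧ a = x * c := fun {a x} e =>
    ⟨x⁻¹ * a, (hk _).1 (by rw [map_mul, map_inv, e, inv_mul_cancel]), by group⟩
  have kS : ∀ {M : Subgroup H}, z ∈ M → ∀ x, φ x ∈ M.map φ → x ∈ M := fun zM x ⟨y, hy, e⟩ => by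
    obtain ⟨c, rfl | rfl, rfl⟩ := lf e.symm
    exacts [mul_mem hy (one_mem _), mul_mem hy zM]
  obtain ⟨σ, hσ⟩ := hs.hasRightInverse
  obtain ⟨β, hβ⟩ : ∃ β : X → X → ZMod 2, ∀ x y, β (φ x) (φ y) = eps ⁅x, y⁆ :=
    ⟨fun u v => eps ⁅σ u, σ v⁆, fun x y => by
      obtain ⟨c, hc, e⟩ := lf (hσ (φ x))
      obtain ⟨d, hd, e'⟩ := lf (hσ (φ y))
      refine eps_congr ?_
      rw [e, e', commutatorElement_eq_one_iff_commute, commutatorElement_eq_one_iff_commute]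
      refine ⟨fun k => ?_, fun k => (k.mul_left (ce hc y).symm).mul_right (ce hd _)⟩
      have := ((k.mul_left (ce hc _).symm.inv_left).mul_right (ce hd _).inv_right)
      rwa [mul_inv_cancel_right, mul_inv_cancel_right] at this⟩
  obtain ⟨q, hq⟩ : ∃ q : X → ZMod 2, ∀ x, q (φ x) = eps (x * x) :=
    ⟨fun u => eps (σ u * σ u), fun x => by
      obtain ⟨c, hc, e⟩ := lf (hσ (φ x))
      show eps (σ (φ x) * σ (φ x)) = _
      rw [e, (ce hc x).symm.mul_mul_mul_comm, show c * c = 1 by rcases hc with rfl | rfl <;> simp [z2],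
        mul_one]⟩
  have cm : ∀ {x y}, φ x * φ y = φ y * φ x → ⁅x, y⁆ = 1 ∨ ⁅x, y⁆ = z := fun e => (hk _).1 (by
    rw [map_commutatorElement, commutatorElement_eq_one_iff_mul_comm, e])
  have sy : ∀ x y : H, eps ⁅x, y⁆ = eps ⁅y, x⁆ := fun x y => eps_congr (by
    rw [← commutatorElement_inv, inv_eq_one])
  have hc : ∀ g u v, β (g * u * g⁻¹) (g * v * g⁻¹) = β u v := fun g u v => by
    obtain ⟨g, rfl⟩ := hs g
    obtain ⟨u, rfl⟩ := hs u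
    obtain ⟨v, rfl⟩ := hs v
    simp only [← map_inv, ← map_mul, hβ]
    exact eps_congr (by rw [← conjugate_commutatorElement, conj_eq_one_iff])
  have hS' := hS.map φ
  rw [map_top_of_surjective φ hs] at hS'
  have wc0 : ∀ a, cj a (Q.map φ) ≤ S.map φ → cj a (Q.map φ) = Q.map φ := fun a e => by
    obtain ⟨a, rfl⟩ := hs a
    rw [← map_cj] at e ⊢
    rw [wc a fun y hy => kS (QS zQ) y (e (mem_map_of_mem φ hy))]
  have SN : S.map φ ≤ Ns (Q.map φ) := fun a ha =>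
    mem_Ns_iff.2 (wc0 a ((cj_mono a (map_mono QS)).trans (cj_eq_of_mem ha).le))
  have p2 : ∀ g, IsPGroup 2 (cj g (Q.map φ)) := fun g =>
    isPGroup_cj (hS'.isPGroup.to_le (map_mono QS)) g
  have mv : ∀ g (B : Subgroup X), IsPGroup 2 B → B ≤ Ns (cj g (Q.map φ)) →
      ∃ a, cj a (cj g (Q.map φ)) = Q.map φ ∧ cj a B ≤ S.map φ := fun g B h1 h2 => by
    obtain ⟨k, hk, e⟩ := (hS'.mono SN le_top).exists_cj_le (isPGroup_cj h1 g⁻¹)
      (by rwa [cj_inv_le_iff_le_cj, cj_Ns])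
    exact ⟨k * g⁻¹, by rw [cj_cj, inv_mul_cancel_right, mem_Ns_iff.1 hk], by rwa [← cj_cj]⟩
  have n0 : ∀ n s, (∀ C : Subgroup H, C ≤ Q → (∀ c ∈ C, c * s * c⁻¹ * s⁻¹ ∈ zpowers z) →
      n * Nat.card C < Nat.card Q) → n < (C1 (φ s)).relIndex (Q.map φ) := fun n s e => by
    have := e ((C1 (φ s)).comap φ ⊓ Q) inf_le_right fun c hc => by
      rcases (hk (c * s * c⁻¹ * s⁻¹)).1 (by
        rw [map_mul, map_mul, map_mul, mem_C1.1 (mem_inf.1 hc).1, map_inv, map_inv]; group)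
        with e | e <;> rw [e]
      exacts [one_mem _, mem_zpowers z]
    rw [← card_mul_relIndex (inf_le_right : (C1 (φ s)).comap φ ⊓ Q ≤ Q), inf_relIndex_right,
      relIndex_comap, mul_comm] at this
    exact Nat.lt_of_mul_lt_mul_left this
  have tr : ∀ {a b : X} {V : Subgroup X}, cj a V = Q.map φ → b ∉ V → ∀ s, φ s = a * b * a⁻¹ →
      s ∉ Q ∧ (C1 b).relIndex V = (C1 (φ s)).relIndex (Q.map φ) := fun {a b V} e nb s hs =>
    ⟨fun k => nb (by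
      have := mem_map_of_mem φ k
      rwa [hs, ← e, conj_mem_cj] at this), by rw [hs, ← e, ← cj_C1, relIndex_cj]⟩
  have hy : Hy β q fun V => ∃ g, V = cj g (Q.map φ) :=
    { symm := fun u v => by
        obtain ⟨u, rfl⟩ := hs u
        obtain ⟨v, rfl⟩ := hs v
        rw [hβ, hβ, sy]
      add := fun r u v h1 h2 => by
        obtain ⟨r, rfl⟩ := hs r
        obtain ⟨u, rfl⟩ := hs u
        obtain ⟨v, rfl⟩ := hs v
        rw [← map_mul, hβ, hβ, hβ, ← eps_mul z2 (cm h1) (cm h2),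
          show ⁅r, u * v⁆ = ⁅r, u⁆ * (u * ⁅r, v⁆ * u⁻¹) by simp only [commutatorElement_def]; group,
          (ce (cm h2) u).eq, mul_inv_cancel_right]
      conj := hc
      self := fun u => by
        obtain ⟨u, rfl⟩ := hs u
        rw [hβ, commutatorElement_self, eps_one]
      qconj := fun g u => by
        obtain ⟨g, rfl⟩ := hs g
        obtain ⟨u, rfl⟩ := hs u
        simp only [← map_inv, ← map_mul, hq]
        exact eps_congr (by rw [conj_mul, conj_eq_one_iff])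
      qadd := fun u v h1 h2 h3 => by
        obtain ⟨u, rfl⟩ := hs u
        obtain ⟨v, rfl⟩ := hs v
        rw [← map_mul, hk] at h1 h2
        have h4 : u * u * (v * v) = 1 ∨ u * u * (v * v) = z := (hk _).1 (by
          rw [map_mul, (hk _).2 h1, (hk _).2 h2, one_mul])
        rw [← map_mul, hq, hq, hq, hβ, sy, ← eps_mul z2 h1 h2, ← eps_mul z2 h4 (cm h3.symm),
          show u * v * (u * v) = u * (⁅v, u⁆ * (u * v * v)) by
            simp only [commutatorElement_def]; group, ← (ce (cm h3.symm) _).eq]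
        simp only [mul_assoc]
      cjm := by
        rintro g _ ⟨k, rfl⟩
        exact ⟨_, cj_cj g k _⟩
      sq := by
        rintro _ ⟨g, rfl⟩ _ ⟨_, ⟨x, hx, rfl⟩, rfl⟩
        rw [← map_mul, ← map_mul, (hk _).2 (sq x hx), map_one]
      nd := by
        rintro _ ⟨g, rfl⟩ _ ⟨_, ⟨x, hx, rfl⟩, rfl⟩ e
        rw [(hk x).2 (cen x hx fun y hy => commutatorElement_eq_one_iff_mul_comm.1 (eps_zero ?_)),
          map_one]
        rw [← hβ, ← hc g]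
        exact e _ (conj_mem_cj.2 (mem_map_of_mem φ hy))
      wc := by
        rintro _ _ ⟨g, rfl⟩ ⟨k, rfl⟩ e
        obtain ⟨a, e1, e2⟩ := mv g _ (p2 k) e
        rw [cj_cj] at e2
        exact cj_injective a (by rw [e1, cj_cj, wc0 _ e2])
      n1 := by
        rintro _ _ ⟨g, rfl⟩ ⟨k, rfl⟩ b bW bN bV
        obtain ⟨a, e1, e2⟩ := mv g _ (p2 k).to_inf_left inf_le_right
        obtain ⟨s, hs, e⟩ := e2 (conj_mem_cj.2 (mem_inf.2 ⟨bW, bN⟩))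
        obtain ⟨k1, k2⟩ := tr e1 bV s e
        exact k2 ▸ n0 2 s (n1 s hs k1)
      ex := by
        rintro _ _ _ ⟨g, rfl⟩ ⟨k, rfl⟩ a1 - hρ ρ1 s1 s2 s3
        obtain ⟨g, rfl⟩ := hs g
        obtain ⟨k, rfl⟩ := hs k
        have e0 : EX z (cj g Q) (cj k Q) := EX.pull (ψ := (MulAut.conj g⁻¹).toMonoidHom)
          (MulAut.conj g⁻¹).injective (by
            change EX (g⁻¹ * z * g⁻¹⁻¹) (cj g⁻¹ (cj g Q)) (cj g⁻¹ (cj k Q))
            rw [zc, mul_inv_cancel_right, cj_cj, cj_cj, inv_mul_cancel, cj_one]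
            exact ex _)
        have zA : ∀ g, z ∈ cj g Q := fun g => by
          have := conj_mem_cj (g := g).2 zQ
          rwa [zc, mul_inv_cancel_right] at this
        have zB := zA k
        replace zA := zA g
        rw [← map_cj, ← map_cj] at a1 hρ s1 s2 s3 ⊢
        generalize cj g Q = A at *
        generalize cj k Q = B at *
        obtain ⟨⟨r, rA, rfl⟩, rB⟩ := hρ
        have b0 : ∀ x, β (φ r) (φ x) = 0 ↔ x ∈ C1 r := fun x => by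
          rw [hβ, mem_C1, eq_comm (a := x * r), ← commutatorElement_eq_one_iff_mul_comm]
          exact ⟨eps_zero, fun e => e ▸ eps_one⟩
        have k1 : ∀ {A B : Subgroup H}, z ∈ A →
            (∀ x ∈ B.map φ, x ∈ Ns (A.map φ) ↔ β (φ r) x = 0) → B ⊓ C1 r ≤ Ns A :=
          fun zA s x hx => mem_normalizer_of_cj_le (cj_le_iff.2 fun y hy => kS zA _ (by
            rw [map_mul, map_mul, map_inv]
            exact mem_normalizer_conj ((s _ (mem_map_of_mem φ hx.1)).2 ((b0 x).2 hx.2))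
              (mem_map_of_mem φ hy)))
        have k2 : ∀ {A B : Subgroup H}, (∀ x ∈ A.map φ, x ∈ Ns (B.map φ) ↔ β (φ r) x = 0) →
            (∀ x ∈ B.map φ, x ∈ Ns (A.map φ) ↔ β (φ r) x = 0) → Rs A B r →
            ∃ a ∈ A.map φ, a ∉ Ns (B.map φ) ∧ ∀ b ∈ B.map φ ⊓ Ns (A.map φ),
              ∀ b' ∈ B.map φ ⊓ Ns (A.map φ),
                β (a * b * a⁻¹ * b⁻¹) (a * b' * a⁻¹ * b'⁻¹) = 0 := by
          rintro A B s s' ⟨a, ha, n, k⟩
          refine ⟨φ a, mem_map_of_mem φ ha, fun c => n ((b0 a).1 ((s _ (mem_map_of_mem φ ha)).1 c)), ?_⟩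
          rintro _ ⟨⟨b, hb, rfl⟩, hn⟩ _ ⟨⟨b', hb', rfl⟩, hn'⟩
          have := k b ⟨hb, (b0 b).1 ((s' _ (mem_map_of_mem φ hb)).1 hn)⟩ b'
            ⟨hb', (b0 b').1 ((s' _ (mem_map_of_mem φ hb')).1 hn')⟩
          simp only [← map_inv, ← map_mul, hβ]
          rw [commutatorElement_eq_one_iff_commute.2 this, eps_one]
        refine (e0 r ⟨rA, kS zB r rB⟩ ?_ (k1 zA s2) (k1 zB s1) (fun c => a1 ?_) ?_).imp
          (k2 s1 s2) (k2 s2 s1)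
        · rintro ⟨n, rfl⟩
          exact ρ1 (by rw [map_zpow, (hk z).2 (.inr rfl), one_zpow])
        · rintro _ ⟨⟨b, hb, rfl⟩, hn⟩
          exact mem_map_of_mem φ (c ⟨hb, (b0 b).1 ((s2 _ (mem_map_of_mem φ hb)).1 hn)⟩)
        · intro c hc b hb
          have m1 : z ∈ closure ({z, r} : Set H) := subset_closure (.inl rfl)
          have m2 : r ∈ closure ({z, r} : Set H) := subset_closure (.inr rfl)
          have := s3 _ ⟨mem_map_of_mem φ hc.1, (s1 _ (mem_map_of_mem φ hc.1)).2 ((b0 c).2 hc.2)⟩ _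
            ⟨mem_map_of_mem φ hb.1, (s2 _ (mem_map_of_mem φ hb.1)).2 ((b0 b).2 hb.2)⟩
          simp only [← map_inv, ← map_mul] at this
          refine kS m1 _ ?_
          rcases this with e | e <;> rw [e]
          exacts [one_mem _, mem_map_of_mem φ m2] }
  intro x hx g e
  refine kS zQ _ (hy.sc ⟨1, (cj_one _).symm⟩ ⟨φ g, rfl⟩ (mem_inf.2 ⟨?_, SN (mem_map_of_mem φ e)⟩))
  rw [map_mul, map_mul, map_inv]
  exact conj_mem_cj.2 (mem_map_of_mem φ hx)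

end SD4

theorem strong0 {H : Type u} [Group H] [Finite H] {z : H} {Q S : Subgroup H}
    (zc : ∀ x, x * z = z * x) (z2 : z * z = 1) (zQ : z ∈ Q) (sq : ∀ x ∈ Q, x * x = 1 ∨ x * x = z)
    (cen : ∀ x ∈ Q, (∀ y ∈ Q, x * y = y * x) → x = 1 ∨ x = z) (hS : IsSylowIn 2 S ⊤) (QS : Q ≤ S)
    (wc : ∀ g, cj g Q ≤ S → cj g Q = Q) 
    (n1 : ∀ s ∈ S, s ∉ Q → ∀ C : Subgroup H, C ≤ Q → (∀ c ∈ C, c * s * c⁻¹ * s⁻¹ ∈ zpowers z) →
      2 * Nat.card C < Nat.card Q)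
    (ex : ∀ g, SD4.EX z Q (cj g Q)) :
    ∀ x ∈ Q, ∀ g, g * x * g⁻¹ ∈ S → g * x * g⁻¹ ∈ Q := by
  have hZ : zpowers z ≤ center H := zpowers_le.2 (mem_center_iff.2 zc)
  have hN : (zpowers z).Normal := ⟨fun n hn x => by
    rwa [mem_center_iff.1 (hZ hn) x, mul_inv_cancel_right]⟩
  refine SD4.core (φ := QuotientGroup.mk' (zpowers z)) zc z2 (QuotientGroup.mk'_surjective _)
    (fun x => ?_) zQ sq cen hS QS wc n1 ex
  rw [QuotientGroup.mk'_apply, QuotientGroup.eq_one_iff]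
  refine ⟨fun ⟨k, e⟩ => ?_, ?_⟩
  · have e' : z ^ k = x := e
    have z2' : z ^ (2 : ℤ) = 1 := by rw [zpow_two, z2]
    rcases Int.even_or_odd' k with ⟨j, rfl | rfl⟩
    · exact .inl (by rw [← e', zpow_mul, z2', one_zpow])
    · exact .inr (by rw [← e', zpow_add_one, zpow_mul, z2', one_zpow, one_mul])
  · rintro (rfl | rfl)
    exacts [one_mem _, mem_zpowers _]

theorem strong0' {G : Type u} [Group G] [Finite G] {z : G} {Q S : Subgroup G}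
    (z2 : z * z = 1) (zQ : z ∈ Q) (sq : ∀ x ∈ Q, x * x = 1 ∨ x * x = z)
    (cen : ∀ x ∈ Q, (∀ y ∈ Q, x * y = y * x) → x = 1 ∨ x = z) (hS : IsSylowIn 2 S (C1 z)) (QS : Q ≤ S)
    (wc : ∀ g ∈ C1 z, cj g Q ≤ S → cj g Q = Q)
    
    (n1 : ∀ s ∈ S, s ∉ Q → ∀ C : Subgroup G, C ≤ Q → (∀ c ∈ C, c * s * c⁻¹ * s⁻¹ ∈ zpowers z) →
      2 * Nat.card C < Nat.card Q)
    (exG : ∀ g ∈ C1 z, ∀ r ∈ Q ⊓ cj g Q, r ∉ zpowers z → cj g Q ⊓ C1 r ≤ Ns Q →
      Q ⊓ C1 r ≤ Ns (cj g Q) → ¬ cj g Q ⊓ C1 r ≤ Q →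
      (∀ c ∈ Q ⊓ C1 r, ∀ b ∈ cj g Q ⊓ C1 r, c * b * c⁻¹ * b⁻¹ ∈ closure {z, r}) →
      (∃ a ∈ Q, a ∉ C1 r ∧ ∀ b ∈ cj g Q ⊓ C1 r, ∀ b' ∈ cj g Q ⊓ C1 r,
        Commute (a * b * a⁻¹ * b⁻¹) (a * b' * a⁻¹ * b'⁻¹)) ∨
      (∃ a ∈ cj g Q, a ∉ C1 r ∧ ∀ b ∈ Q ⊓ C1 r, ∀ b' ∈ Q ⊓ C1 r,
        Commute (a * b * a⁻¹ * b⁻¹) (a * b' * a⁻¹ * b'⁻¹))) :
    ∀ x ∈ Q, ∀ g ∈ C1 z, g * x * g⁻¹ ∈ S → g * x * g⁻¹ ∈ Q := by
  have QC : Q ≤ C1 z := QS.trans hS.le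
  have zz : z ∈ C1 z := QC zQ
  have tr : ∀ n (s : C1 z), (∀ C : Subgroup G, C ≤ Q → (∀ c ∈ C, c * s * c⁻¹ * s.1⁻¹ ∈ zpowers z) →
      n * Nat.card C < Nat.card Q) → ∀ C : Subgroup (C1 z), C ≤ Q.subgroupOf _ →
      (∀ c ∈ C, c * s * c⁻¹ * s⁻¹ ∈ zpowers (⟨z, zz⟩ : C1 z)) →
      n * Nat.card C < Nat.card (Q.subgroupOf (C1 z)) := fun n s e C h1 h2 => by
    rw [Nat.card_congr (subgroupOfEquivOfLe QC).toEquiv, ← card_map_of_injective (C1 z).subtype_injective]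
    refine e _ (map_le_iff_le_comap.2 h1) ?_
    rintro _ ⟨c, hc, rfl⟩
    obtain ⟨k, e⟩ := h2 c hc
    exact ⟨k, by simpa using congrArg Subtype.val e⟩
  have := strong0 (H := C1 z) (z := ⟨z, zz⟩) (Q := Q.subgroupOf _) (S := S.subgroupOf _)
    (fun x => Subtype.ext (mem_C1.1 x.2)) (Subtype.ext z2) zQ
    (fun x hx => (sq x hx).imp Subtype.ext Subtype.ext)
    (fun x hx k => (cen x hx fun y hy => congrArg Subtype.val (k ⟨y, QC hy⟩ hy)).imp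
      Subtype.ext Subtype.ext) hS.subgroupOf_top (fun x hx => QS hx)
    (fun g e => by
      have k := wc g g.2 (cj_le_iff.2 fun y hy => cj_le_iff.1 e ⟨y, QC hy⟩ hy)
      ext y
      rw [mem_cj, mem_subgroupOf, mem_subgroupOf]
      conv_rhs => rw [← k, mem_cj]
      rfl)
    (fun s hs n => tr 2 s (n1 s hs n))
    fun g => SD4.EX.pull (C1 z).subtype_injective (by
      rw [map_cj, map_subgroupOf_eq_of_le QC]
      exact exG g g.2)
  exact fun x hx g hg => this ⟨x, QC hx⟩ hx ⟨g, hg⟩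

end Cfsg.Lib.R11.SD
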