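import Cfsg.Agent.R11.GM5

set_option autoImplicit false
set_option maxRecDepth 100000
set_option linter.unusedSectionVars false
set_option linter.unusedVariables false

namespace Cfsg.Lib.R11.GD

open Subgroup Cfsg.Lib.Trans Cfsg.Lib.Gold Cfsg.Lib.Spor Cfsg.Lib.Spor.MP
open scoped commutatorElement Pointwise

universe u

variable {G : Type u} [Group G] [Finite G] {V : Subgroup G} {v : Finset GolayPt → G}
  {ρ : G → Equiv.Perm GolayPt} (c : Cod V v ρ) {ω s : G} (h : IsW V ρ ω s)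


namespace M6

theorem e1 : ∀ j < 16, j ≠ 0 → ak (gP j) 1 = 1 ∧
    peq (pmul (pconj (gP j) (nP j)) (pinv (nP j))) pid = true ∧
    (∀ i < 5, dl (gP j) (2 ^ i) < 2 ^ 5) ∧ ∀ m < 64, dl (gP j) (32 * m) < 32 → m = 0 := by
  decide +kernel

theorem e2 : ∀ k < 2048, k ^^^ ak (ppow sP 20) k ^^^ ak (ppow sP 40) k < 32 → ¬ k < 32 →
    ∀ j < 16, dl (nP j) k < 2 → j = 0 := fun k hk h1 h2 j hj h3 => by
  have h0 : force (ppow sP 20) (fun p => force (ppow sP 40) fun q =>
    allLT 2048 fun k => Nat.blt k 32 || !Nat.blt (Nat.xor (Nat.xor k (ak p k)) (ak q k)) 32 ||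
      allLT 16 fun j => Nat.beq j 0 || !Nat.blt (dl (nP j) k) 2) = true := by decide +kernel
  rw [force_eq, force_eq] at h0
  have := allLT_iff.1 h0 k hk
  simp only [Bool.or_eq_true, Nat.blt_eq, Bool.not_eq_true', ← Bool.not_eq_true, allLT_iff,
    Nat.beq_eq] at this
  rcases this with (e | e) | e
  · exact absurd e h2
  · exact absurd h1 e
  · exact (e j hj).resolve_right fun n => n h3

theorem e3 : (∀ j < 16, (∀ i < 5, ak (nP j) (2 ^ i) = 2 ^ i) → j = 0) ∧
    ∀ k < 32, (∀ j < 16, ak (nP j) k = k) → k < 2 := by decide +kernel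

theorem e4 : ∀ j < 16, j ≠ 0 → ∀ l < 16, l ≠ 0 → ∃ i < 15,
    peq (pmul (pconj (ppow sP i) (nP j)) (nP l)) pid = true := by decide +kernel

theorem e5 : ∀ j < 16, j ≠ 0 → ∀ k < 32, ak (nP j) k = k →
    dl (nP j) (0x700e2000000600c2000000510a00000004108000000030062000000200420000001102000000001000000000700e2180308000001442800000000000041080000000300620801080000004408000000000000010001c038800000180308000001442800000010420000000000000300620000002004200000011020000000010001c038800000000000600c2000000510a01042000000000000030062080108000000440800000000000001000000000700e218030800000000000510a0104200000000c018800000000000200420440800000000000001000000000700e2000000600c214428000000104200000000c0188000000801080000000000011020000000010001c038800000000000600c214428000000000000410800c0188000000000002004204408000000000000010001c03880000018030800000000000510a0000000410800c01880000008010800000000000110200000000100000000000000000000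0000048092104200680d218430000000000000000000000002805208410008012004000000000000004408910220000000000000608c019032400000000000208400901240000000000004009002000680d218430048092104200000000000000000000000000000000000000000000002805208410008012004000608c0190324000000000004408910220000000000000000000000002084009012400000000000040090020000000000000084109202400a0141292520000000000002004109212000000000000000000000000400900200000000000000000000000000000000000000000000000520a010021080104248480c218034069010024008000a4948280504000000000000000000000080900210424200410921200000000000000000000000040090020000000000000000000000000000000000000000000000000000000000000000000000000000000000000000000 >>> (11 * (32 * j + k)) % 2048) = k := by decide +kernel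

theorem e6 : ∀ k < 2048, (∀ i < 4, dl (nP (2 ^ i)) k < 2) → k < 32 := fun k hk h1 => by
  have := allLT_iff.1 (by decide +kernel : allLT 2048 (fun k => Nat.blt k 32 ||
    !allLT 4 fun i => Nat.blt (dl (nP (2 ^ i)) k) 2) = true) k hk
  simp only [Bool.or_eq_true, Nat.blt_eq, Bool.not_eq_true', ← Bool.not_eq_true, allLT_iff] at this
  exact this.resolve_right fun n => n h1

theorem e7 : ∀ j < 16, j ≠ 0 → ∃ a ∈ [32, 448, 512], ∃ b ∈ [32, 448, 512],
    dl (ppow sP 20) a < 2 ^ 5 ∧ dl (ppow sP 20) b < 2 ^ 5 ∧ ¬ dl (nP j) a < 2 ∧ ¬ dl (nP j) b < 2 ∧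
      ¬ dl (nP j) (a ^^^ b) < 2 := by decide +kernel

theorem sp : ∀ k < 2048, k = 32 * (k / 32) ^^^ k % 32 := by decide +kernel

include c in
theorem j0 {y : G} (hy : y ∈ Ns V) (r : Rep (ρ y) (nP 0)) : y ∈ V :=
  (mem_V_iff c hy r).2 (by rw [n_zero]; decide +kernel)

include c in
theorem fx {y : G} (hy : y ∈ Ns V) {p k : ℕ} (r : Rep (ρ y) p) (hk : k < 2048)
    (e : y * w v k = w v k * y) : ak p k = k := by
  have h1 := conj_w c hy r hk
  exact w_inj c h1.2 hk (by rw [← h1.1, e, mul_inv_cancel_right])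

end M6

open M6

include c h

theorem f_nd :
    ∀ a ∈ V, a * (s ^ 20 * a * (s ^ 20)⁻¹) * (s ^ 40 * a * (s ^ 40)⁻¹) ∈ (sub c 5) → a ∉ (sub c 5) →
    ∀ y ∈ (OO c), ⁅y, a⁆ ∈ zpowers (w v 1) → y ∈ V := by
  rintro a ha h1 h2 y ⟨hy, j, hj, r⟩ h3
  obtain ⟨k, hk, rfl⟩ := w_surj c ha
  have a1 := conj_w c (pow_mem h.sm 20) (rep_pow c h.sm h.sr 20) hk
  have a2 := conj_w c (pow_mem h.sm 40) (rep_pow c h.sm h.sr 40) hk
  have a3 := comm_w c hy r hk
  rw [a1.1, a2.1, ← w_xor c, ← w_xor c, w_sub c (by norm_num) (Nat.xor_lt_two_pow (n := 11)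
    (Nat.xor_lt_two_pow (n := 11) hk a1.2) a2.2)] at h1
  rw [w_sub c (by norm_num) hk] at h2
  rw [a3.1, w_zp c a3.2.2] at h3
  obtain rfl := e2 k hk h1 h2 j hj h3
  exact j0 c hy r

theorem f_st :
    ∀ y ∈ (OO c), y ∉ V → ∀ a ∈ V, (∀ g ∈ Ns V ⊓ C1 (w v 1), ⁅g, y⁆ ∈ V → ⁅g, a⁆ ∈ (sub c 5)) → a ∈ (sub c 5) := by
  rintro y ⟨hy, j, hj, r⟩ n a ha H
  obtain ⟨k, hk, rfl⟩ := w_surj c ha
  obtain ⟨b1, b2, b3, b4⟩ := e1 j hj fun e => n (j0 c hy (e ▸ r))
  obtain ⟨g, hg, rg⟩ := lift c (is_g j hj)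
  have a3 := comm_w c hg rg hk
  have := H g ⟨hg, (cen_w c hg rg (by norm_num)).2 b1⟩ ((mem_V_iff c (mul_mem (mul_mem
    (mul_mem hg hy) (inv_mem hg)) (inv_mem hy)) (rep_mul c (mul_mem (mul_mem hg hy) (inv_mem hg))
      (inv_mem hy) (rep_conj c hg hy rg r) (rep_inv c hy r))).2 b2)
  rw [a3.1, w_sub c (by norm_num) a3.2.2, sp k hk, M5.dl_xor c hg rg (by omega) (by omega)] at this
  have b5 := M5.dl_lt c hg rg (by norm_num) b3 (k % 32) (by omega)
  have b6 := Nat.xor_lt_two_pow this b5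
  rw [Nat.xor_assoc, Nat.xor_self, Nat.xor_zero] at b6
  have := b4 (k / 32) (by omega) b6
  exact (w_sub c (by norm_num) hk).2 (by omega)

theorem f_cWO :
    ∀ y ∈ (OO c), (∀ a ∈ (sub c 5), y * a = a * y) → y ∈ V := by
  rintro y ⟨hy, j, hj, r⟩ H
  obtain rfl := e3.1 j hj fun i hi => fx c hy r (by interval_cases i <;> norm_num)
    (H _ ⟨_, Nat.pow_lt_pow_right (by norm_num) hi, rfl⟩)
  exact j0 c hy r

theorem f_zW :
    ∀ a ∈ (sub c 5), (∀ y ∈ (OO c), y * a = a * y) → a ∈ zpowers (w v 1) := by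
  rintro a ⟨k, hk, rfl⟩ H
  refine (w_zp c (by omega)).2 (e3.2 k hk fun j hj => ?_)
  obtain ⟨g, hg, rg⟩ := lift c (is_n j hj)
  exact fx c hg rg (by omega) (H g ⟨hg, j, hj, rg⟩)

theorem f_trO :
    ∀ y ∈ (OO c), y ∉ V → ∀ y' ∈ (OO c), y' ∉ V → ∃ i : ℕ, s ^ i * y * (s ^ i)⁻¹ * y' ∈ V := by
  rintro y ⟨hy, j, hj, r⟩ n y' ⟨hy', l, hl, r'⟩ n'
  obtain ⟨i, -, e⟩ := e4 j hj (fun e => n (j0 c hy (e ▸ r))) l hl fun e => n' (j0 c hy' (e ▸ r'))
  exact ⟨i, M5.inV c (M5.mr c (M5.cjr c h hy r i) ⟨hy', r'⟩) e⟩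

theorem f_cmV :
    ∀ y ∈ (OO c), y ∉ V → ∀ a ∈ (sub c 5), y * a = a * y → ∃ b ∈ V, ⁅b, y⁆ = a := by
  rintro y ⟨hy, j, hj, r⟩ n a ⟨k, hk, rfl⟩ e
  have := e5 j hj (fun e => n (j0 c hy (e ▸ r))) k hk (fx c hy r (by omega) e)
  exact ⟨_, w_mem c (Nat.mod_lt _ (by norm_num)), by
    rw [(comm_w c hy r (Nat.mod_lt _ (by norm_num))).2.1, this]⟩

theorem f_cVO :
    ∀ a ∈ V, (∀ y ∈ (OO c), ⁅y, a⁆ ∈ zpowers (w v 1)) → a ∈ (sub c 5) := by
  intro a ha H
  obtain ⟨k, hk, rfl⟩ := w_surj c ha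
  refine (w_sub c (by norm_num) hk).2 (e6 k hk fun i hi => ?_)
  have hj : 2 ^ i < 16 := Nat.pow_lt_pow_right (by norm_num) hi
  obtain ⟨g, hg, rg⟩ := lift c (is_n _ hj)
  have a3 := comm_w c hg rg hk
  rw [← w_zp c a3.2.2, ← a3.1]
  exact H g ⟨hg, _, hj, rg⟩

theorem f_hyV :
    ∀ y ∈ (OO c), y ∉ V → ∃ a ∈ V, ∃ b ∈ V, ⁅s ^ 20, a⁆ ∈ (sub c 5) ∧ ⁅s ^ 20, b⁆ ∈ (sub c 5) ∧
    ⁅a, y⁆ ∉ zpowers (w v 1) ∧ ⁅b, y⁆ ∉ zpowers (w v 1) ∧ ⁅a * b, y⁆ ∉ zpowers (w v 1) := by
  rintro y ⟨hy, j, hj, r⟩ n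
  obtain ⟨a, ha, b, hb, b1, b2, b3, b4, b5⟩ := e7 j hj fun e => n (j0 c hy (e ▸ r))
  have l : ∀ x ∈ [32, 448, 512], x < 2048 := by decide
  have t := fun x hx => comm_w c (pow_mem h.sm 20) (rep_pow c h.sm h.sr 20) (l x hx)
  have u : ∀ {x}, x < 2048 → ¬ dl (nP j) x < 2 → ⁅w v x, y⁆ ∉ zpowers (w v 1) := fun hx e => by
    rwa [(comm_w c hy r hx).2.1, w_zp c (comm_w c hy r hx).2.2]
  exact ⟨_, w_mem c (l a ha), _, w_mem c (l b hb), (t a ha).1 ▸ ⟨_, b1, rfl⟩, (t b hb).1 ▸ ⟨_, b2, rfl⟩,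
    u (l a ha) b3, u (l b hb) b4,
    w_xor c a b ▸ u (Nat.xor_lt_two_pow (n := 11) (l a ha) (l b hb)) b5⟩

end Cfsg.Lib.R11.GD
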