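import Cfsg.Agent.R11.GD

/-! Commutator facts for the trio parabolic of `2^11.M24`: `V` against `Y` and `R`. -/

set_option autoImplicit false
set_option maxRecDepth 100000
set_option linter.unusedSectionVars false
set_option linter.unusedVariables false

namespace Cfsg.Lib.R11.GD

open Subgroup Cfsg.Lib.Trans Cfsg.Lib.Gold Cfsg.Lib.Spor Cfsg.Lib.Spor.MP
open scoped commutatorElement Pointwise

universe u

variable {G : Type u} [Group G] [Finite G] {V : Subgroup G} {v : Finset GolayPt → G}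
  {ρ : G → Equiv.Perm GolayPt} (c : Cod V v ρ) {ω s : G} (h : IsW V ρ ω s)

namespace GM7

/-- The commutator of `yP j` with the class `m` of `V / E`, modulo `U`. -/
def Q (j m : ℕ) : ℕ := Nat.mod (Nat.shiftRight 0x9b6492d24010eaa092e280048be69ee24014fa229ed28014eb668e82c0049aa28eb20010fbe482b2c0008a208282008315449354409364809364808705c69f64409774029f54809765468f04c08714828f34009375c48334c0830400830400201f74f35240306eb0f36280240ff6ff6240347e32ff5280346f76ef02c0241eb2ef3200307ff4e332c0200e30e30200a39154f2d440b3e090f2e480a781d6fee440b7f012fed480b7e156ee84c0a79092eeb400b3f1d4e2b4c0a38010e28400a31b74705640b36ab0706680a70bf67c6640b77a327c5680b76b766c06c0a71ab26c3600b37bf46036c0a30a3060060020955471d04030e49071e0802485d67de04034f4127dd08034e5566d80c02494926db00030f5d461b0c0208410618000839f6411d64093eea011e680878fe61de64097fe221dd68097ef660d86c0879ea20db60093ffe401b6c0838e200186000011441050401060801060800401c61c60401470021c50801461460c00c00410820c30001071c40030c0000000000000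 (6 * (8 * j + m))) 64

/-- A table of witnesses. -/
def Wt (m n i : ℕ) : ℕ := Nat.shiftRight 0x86084000010c10800000000084006080010800c1000000200400010040080002000000c00410010180082002000000008a08808001141101000000008800a000011001400000000000000000000000000000002006084000400c10800000000000000000000000000000006104000100c20800020000002004006080400800c1000000c00410010180082002000000208808a08041101141000000208800a000411001400000000000000000000000000000002006084000400c10800000006100104000c20020800000000000000000000000000000002004006080400800c1000000c00010410180002082000000208808a08041101141000000208800a000411001400000000000000000000000000000002000104000400020800000000086084000010c10800000000084006080010800c1000000000000000000000000000000c00010410180002082000000008a08808001141101000000008800a00001100140000000000000000000000000000000200410400040082080000000210410400042082080000000210400410042080082000000200400410040080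082000000000000000000000000000000220820a20044104144000000220800a00044100140000000000000000000000000000000200408400040081080000000208408400041081080000000208400408041080081000000200400408040080081000000c00820c20180104184000000000000000000000000000000a20800a00144100140000000000000000000000000000000200408400040081080000000208408400041081080000000208400408041080081000000200400408040080081000000c00020420180004084000000a20020220144004044000000000000000000000000000000000000000000000000000000000000000000000000000000000000000000000000000000000000000000000000000000000000000000000000000000000000000000000000000000000000000000000000000000000000000000000000000000000000000000000000000000 (12 * (64 * m + 8 * n + i))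

theorem Q_eq_1' : type_of% @Q.eq_1 := @Q.eq_1
theorem Wt_eq_1' : type_of% @Wt.eq_1 := @Wt.eq_1

attribute [irreducible] Q Wt

theorem split : ∀ n < 11, ∀ k < 2 ^ (n + 1), k < 2 ^ n ∨ k ^^^ 2 ^ n < 2 ^ n := by
  intro n hn k hk
  have := allLT_iff.1 (allLT_iff.1 (by decide +kernel : allLT 11 (fun n => allLT (2 ^ (n + 1))
    fun k => Nat.blt k (2 ^ n) || Nat.blt (Nat.xor k (2 ^ n)) (2 ^ n)) = true) n hn) k hk
  simpa [Nat.blt_eq] using this

theorem span {P : ℕ → Prop} (n : ℕ) (hn : n ≤ 11) (h0 : P 0)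
    (hx : ∀ a < 2048, ∀ b < 2048, P a → P b → P (a ^^^ b)) :
    (∀ i < n, P (2 ^ i)) → ∀ k < 2 ^ n, P k := by
  induction n with
  | zero =>
    intro _ k hk
    obtain rfl : k = 0 := by omega
    exact h0
  | succ n ih =>
    intro hb k hk
    have ih' := ih (by omega) fun i hi => hb i (by omega)
    have h2 : 2 ^ n < 2 ^ 11 := Nat.pow_lt_pow_right (by norm_num) (show n < 11 by omega)
    rcases split n (by omega) k hk with e | e
    · exact ih' k e
    · have := hx _ (e.trans h2) _ h2 (ih' _ e) (hb n (by omega))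
      rwa [Nat.xor_xor_cancel_right] at this

theorem low4 : ∀ d < 2048, d ^^^ d % 4 = 4 * (d / 4) := fun d hd => by
  have := allLT_iff.1 (by decide +kernel : allLT 2048 (fun d =>
    Nat.beq (Nat.xor d (d % 4)) (4 * (d / 4))) = true) d hd
  exact Nat.eq_of_beq_eq_true this

theorem Q_xor : ∀ j < 64, ∀ a < 8, ∀ b < 8, Q j (a ^^^ b) = Q j a ^^^ Q j b := by decide +kernel

theorem Q_basis : ∀ j < 64, ∀ i < 11, dl (yP j) (2 ^ i) / 4 = Q j (2 ^ i / 256) := by
  decide +kernel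

theorem Q_zero : ∀ j < 64, dl (yP j) 0 / 4 = Q j (0 / 256) := by decide +kernel

theorem n_two : ∀ j < 16, ak (nP j) 2 = 2 ↔ j < 8 := by decide +kernel

theorem t_cVR : ∀ m < 8, m ≠ 0 → ∃ j < 8, Q j m ≠ 0 := by decide +kernel

theorem t_cEY : ∀ j < 64, j ≠ 0 → ∃ i < 8, ak (yP j) (2 ^ i) ≠ 2 ^ i := by decide +kernel

theorem t_zE : ∀ k < 256, k < 4 ∨ ∃ i < 6, ak (yP (2 ^ i)) k ≠ k := fun k hk => by
  have := allLT_iff.1 (by decide +kernel : allLT 256 (fun k => Nat.blt k 4 ||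
    !allLT 6 fun i => Nat.beq (ak (yP (2 ^ i)) k) k) = true) k hk
  simpa [← Bool.not_eq_true, allLT_iff, Nat.blt_eq] using this

theorem t_cVY : ∀ j < 64, j ≠ 0 → ∃ m < 8, Q j m ≠ 0 := by decide +kernel

theorem t_bv : ∀ m < 8, m ≠ 0 → ∃ l < 8, ∀ j < 8, Q j m = 0 → j = 0 ∨ j = l := by decide +kernel

set_option synthInstance.maxSize 2000 in
theorem t_bv2 : ∀ m < 8, ∀ n < 8, m ≠ 0 → n ≠ 0 → m ≠ n → ∀ j < 8, Q j m = 0 → Q j n = 0 →
    j = 0 := by decide +kernel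

set_option synthInstance.maxSize 2000 in
theorem t_fv : ∀ m < 8, ∀ n < 8, m ≠ 0 → n ≠ 0 → m ≠ n → ∀ i < 5, i < 2 ∨
    ∃ j < 8, ∃ l < 8, 4 * Q j m ^^^ 4 * Q l n = 2 ^ i := by decide +kernel

set_option synthInstance.maxSize 2000 in
theorem t_fvY : ∀ m < 8, ∀ n < 8, m ≠ 0 → n ≠ 0 → m ≠ n → ∀ i < 8, i < 2 ∨
    4 * Q (Wt m n i % 64) m ^^^ 4 * Q (Wt m n i / 64 % 64) n = 2 ^ i := by decide +kernel

include c

theorem dl_xor {p k l : ℕ} (hp : isM24 p = true) (hk : k < 2048) (hl : l < 2048) :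
    dl p (k ^^^ l) = dl p k ^^^ dl p l := by
  rw [dl_eq, dl_eq, dl_eq, ak_xor c hp hk hl]; ac_rfl

theorem dl_Q {j k : ℕ} (hj : j < 64) (hk : k < 2048) : dl (yP j) k / 4 = Q j (k / 256) :=
  span (P := fun k => dl (yP j) k / 4 = Q j (k / 256)) 11 le_rfl (Q_zero j hj)
    (fun a ha b hb e f => by
      have h1 : (dl (yP j) a ^^^ dl (yP j) b) / 4 = dl (yP j) a / 4 ^^^ dl (yP j) b / 4 :=
        Nat.xor_div_two_pow (n := 2)
      have h2 : (a ^^^ b) / 256 = a / 256 ^^^ b / 256 := Nat.xor_div_two_pow (n := 8)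
      show dl (yP j) (a ^^^ b) / 4 = Q j ((a ^^^ b) / 256)
      rw [dl_xor c (is_y j hj) ha hb, h1, h2, Q_xor j hj _ (by omega) _ (by omega), e, f])
    (Q_basis j hj) k hk

theorem comm_U {n : G} (hn : n ∈ Ns V) {j : ℕ} (hj : j < 64) (r : Rep (ρ n) (yP j)) {k : ℕ}
    (hk : k < 2048) : (⁅n, w v k⁆ ∈ sub c 2 ↔ Q j (k / 256) = 0) ∧
      (⁅w v k, n⁆ ∈ sub c 2 ↔ Q j (k / 256) = 0) := by
  obtain ⟨h1, h2, h3⟩ := comm_w c hn r hk
  rw [h1, h2, w_sub c (by norm_num) h3, ← dl_Q c hj hk]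
  constructor <;> omega

theorem comm_F {F : Subgroup G} (hF : sub c 2 ≤ F) {n : G} (hn : n ∈ Ns V) {j : ℕ} (hj : j < 64)
    (r : Rep (ρ n) (yP j)) {k : ℕ} (hk : k < 2048) (e : ⁅w v k, n⁆ ∈ F) :
    w v (4 * Q j (k / 256)) ∈ F := by
  obtain ⟨-, h2, h3⟩ := comm_w c hn r hk
  rw [← dl_Q c hj hk, ← low4 _ h3, w_xor c]
  exact mul_mem (h2 ▸ e) (hF ⟨_, Nat.mod_lt _ (by norm_num), rfl⟩)

theorem mem_R {y : G} : y ∈ OO c ⊓ C1 (w v 2) ↔ y ∈ Ns V ∧ ∃ j < 8, Rep (ρ y) (yP j) := by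
  constructor
  · rintro ⟨⟨hn, j, hj, r⟩, h2⟩
    have := (n_two j hj).1 ((cen_w c hn r (by norm_num)).1 h2)
    exact ⟨hn, j, this, n_y j this ▸ r⟩
  · rintro ⟨hn, j, hj, r⟩
    rw [← n_y j hj] at r
    exact ⟨⟨hn, j, by omega, r⟩, (cen_w c hn r (by norm_num)).2 ((n_two j (by omega)).2 hj)⟩

theorem mem_E {k : ℕ} (hk : k < 2048) : w v k ∈ sub c 8 ↔ k / 256 = 0 := by
  rw [w_sub c (by norm_num) hk]; omega

theorem mul_E {k l : ℕ} (hk : k < 2048) (hl : l < 2048) (e : w v k * w v l ∉ sub c 8) :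
    k / 256 ≠ l / 256 := fun f => e (by
  have h2 : (k ^^^ l) / 256 = k / 256 ^^^ l / 256 := Nat.xor_div_two_pow (n := 8)
  rw [← w_xor c, mem_E c (Nat.xor_lt_two_pow (n := 11) hk hl), h2, f, Nat.xor_self])

theorem mem_V0 {y : G} (hn : y ∈ Ns V) (r : Rep (ρ y) (yP 0)) : y ∈ V := by
  rw [y_zero] at r
  exact (c.ρ_eq_one y hn).1 (r.toPerm_eq.symm.trans rep_one.toPerm_eq)

theorem sub_le {F : Subgroup G} (hF : sub c 2 ≤ F) {n : ℕ} (hn : n ≤ 11)
    (hb : ∀ i < n, i < 2 ∨ w v (2 ^ i) ∈ F) : sub c n ≤ F := by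
  rintro _ ⟨k, hk, rfl⟩
  refine span (P := fun k => w v k ∈ F) n hn (w_zero c ▸ one_mem F)
    (fun a _ b _ e f => w_xor c a b ▸ mul_mem e f) (fun i hi => (hb i hi).elim (fun e => ?_) id) k hk
  exact hF ⟨_, Nat.pow_lt_pow_right (by norm_num) e, rfl⟩

end GM7

open GM7

include c h

theorem f_cVR :
    ∀ a ∈ V, (∀ y ∈ (OO c) ⊓ C1 (w v 2), ⁅y, a⁆ ∈ (sub c 2)) → a ∈ (sub c 8) := by
  intro a ha H
  obtain ⟨k, hk, rfl⟩ := w_surj c ha
  rw [mem_E c hk]
  by_contra e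
  obtain ⟨j, hj, f⟩ := t_cVR _ (by omega) e
  obtain ⟨n, hn, r⟩ := lift c (is_y j (by omega))
  exact f ((comm_U c hn (by omega) r hk).1.1 (H n ((mem_R c).2 ⟨hn, j, hj, r⟩)))

theorem f_cEY :
    ∀ y ∈ (YY c), (∀ a ∈ (sub c 8), y * a = a * y) → y ∈ V := by
  rintro y ⟨hn, j, hj, r⟩ H
  by_cases e : j = 0
  · exact mem_V0 c hn (e ▸ r)
  obtain ⟨i, hi, f⟩ := t_cEY j hj e
  have h1 : 2 ^ i < 2 ^ 8 := Nat.pow_lt_pow_right (by norm_num) hi
  exact (f ((cen_w c hn r (by omega)).1 (mem_C1.2 (H _ ⟨_, h1, rfl⟩)))).elim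

theorem f_zE :
    ∀ a ∈ (sub c 8), (∀ y ∈ (YY c), y * a = a * y) → a ∈ (sub c 2) := by
  rintro _ ⟨k, hk, rfl⟩ H
  rcases t_zE k hk with e | ⟨i, hi, f⟩
  · exact ⟨k, e, rfl⟩
  have h1 : 2 ^ i < 2 ^ 6 := Nat.pow_lt_pow_right (by norm_num) hi
  obtain ⟨n, hn, r⟩ := lift c (is_y _ h1)
  exact (f ((cen_w c hn r (by omega)).1 (mem_C1.2 (H n ⟨hn, _, h1, r⟩)))).elim

theorem f_cVY :
    ∀ y ∈ (YY c), (∀ a ∈ V, ⁅y, a⁆ ∈ (sub c 2)) → y ∈ V := by
  rintro y ⟨hn, j, hj, r⟩ H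
  by_cases e : j = 0
  · exact mem_V0 c hn (e ▸ r)
  obtain ⟨m, hm, f⟩ := t_cVY j hj e
  have h1 : 256 * m < 2048 := by omega
  have := (comm_U c hn hj r h1).1.1 (H _ (w_mem c h1))
  rw [Nat.mul_div_cancel_left _ (by norm_num)] at this
  exact (f this).elim

theorem f_bv :
    ∀ a ∈ V, a ∉ (sub c 8) → Cov 2 V fun y => y ∈ (OO c) ⊓ C1 (w v 2) ∧ ⁅a, y⁆ ∈ (sub c 2) := by
  classical
  intro a ha H
  obtain ⟨k, hk, rfl⟩ := w_surj c ha
  rw [mem_E c hk] at H
  obtain ⟨l, hl, f⟩ := t_bv _ (by omega) H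
  obtain ⟨n, hn, r⟩ := lift c (is_y l (by omega))
  refine ⟨{1, n}, Finset.card_le_two, fun y ⟨h1, h2⟩ => ?_⟩
  obtain ⟨hy, j, hj, q⟩ := (mem_R c).1 h1
  rcases f j hj ((comm_U c hy (by omega) q hk).2.1 h2) with rfl | rfl
  · exact ⟨1, by simp, by rw [mul_one]; exact inv_mem (mem_V0 c hy q)⟩
  · refine ⟨n, by simp, (c.ρ_eq_one _ (mul_mem (inv_mem hy) hn)).1 ?_⟩
    rw [c.ρ_mul _ (inv_mem hy) _ hn, ρ_inv c hy, ← q.toPerm_eq, ← r.toPerm_eq, inv_mul_cancel]

theorem f_bv2 :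
    ∀ a ∈ V, ∀ b ∈ V, a ∉ (sub c 8) → b ∉ (sub c 8) → a * b ∉ (sub c 8) →
    ∀ y ∈ (OO c) ⊓ C1 (w v 2), ⁅a, y⁆ ∈ (sub c 2) → ⁅b, y⁆ ∈ (sub c 2) → y ∈ V := by
  intro a ha b hb Ha Hb Hab y h1 h2 h3
  obtain ⟨k, hk, rfl⟩ := w_surj c ha
  obtain ⟨l, hl, rfl⟩ := w_surj c hb
  rw [mem_E c hk] at Ha
  rw [mem_E c hl] at Hb
  obtain ⟨hy, j, hj, q⟩ := (mem_R c).1 h1
  obtain rfl := t_bv2 _ (by omega) _ (by omega) Ha Hb (mul_E c hk hl Hab) j hj
    ((comm_U c hy (by omega) q hk).2.1 h2) ((comm_U c hy (by omega) q hl).2.1 h3)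
  exact mem_V0 c hy q

theorem f_fv :
    ∀ a ∈ V, ∀ b ∈ V, a ∉ (sub c 8) → b ∉ (sub c 8) → a * b ∉ (sub c 8) → ∀ F : Subgroup G, (sub c 2) ≤ F →
    (∀ y ∈ (OO c) ⊓ C1 (w v 2), ⁅a, y⁆ ∈ F ∧ ⁅b, y⁆ ∈ F) → (sub c 5) ≤ F := by
  intro a ha b hb Ha Hb Hab F hF H
  obtain ⟨k, hk, rfl⟩ := w_surj c ha
  obtain ⟨l, hl, rfl⟩ := w_surj c hb
  rw [mem_E c hk] at Ha
  rw [mem_E c hl] at Hb
  refine sub_le c hF (by norm_num) fun i hi => ?_
  refine (t_fv _ (by omega) _ (by omega) Ha Hb (mul_E c hk hl Hab) i hi).imp_right ?_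
  rintro ⟨j, hj, j', hj', e⟩
  obtain ⟨n, hn, r⟩ := lift c (is_y j (by omega))
  obtain ⟨n', hn', r'⟩ := lift c (is_y j' (by omega))
  rw [← e, w_xor c]
  exact mul_mem (comm_F c hF hn (by omega) r hk (H n ((mem_R c).2 ⟨hn, j, hj, r⟩)).1)
    (comm_F c hF hn' (by omega) r' hl (H n' ((mem_R c).2 ⟨hn', j', hj', r'⟩)).2)

theorem f_fvY :
    ∀ a ∈ V, ∀ b ∈ V, a ∉ (sub c 8) → b ∉ (sub c 8) → a * b ∉ (sub c 8) → ∀ F : Subgroup G, (sub c 2) ≤ F →
    (∀ y ∈ (YY c), ⁅a, y⁆ ∈ F ∧ ⁅b, y⁆ ∈ F) → (sub c 8) ≤ F := by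
  intro a ha b hb Ha Hb Hab F hF H
  obtain ⟨k, hk, rfl⟩ := w_surj c ha
  obtain ⟨l, hl, rfl⟩ := w_surj c hb
  rw [mem_E c hk] at Ha
  rw [mem_E c hl] at Hb
  refine sub_le c hF (by norm_num) fun i hi => ?_
  refine (t_fvY _ (by omega) _ (by omega) Ha Hb (mul_E c hk hl Hab) i hi).imp_right fun e => ?_
  have hj := Nat.mod_lt (Wt (k / 256) (l / 256) i) (show 64 > 0 by norm_num)
  have hj' := Nat.mod_lt (Wt (k / 256) (l / 256) i / 64) (show 64 > 0 by norm_num)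
  obtain ⟨n, hn, r⟩ := lift c (is_y _ hj)
  obtain ⟨n', hn', r'⟩ := lift c (is_y _ hj')
  rw [← e, w_xor c]
  exact mul_mem (comm_F c hF hn hj r hk (H n ⟨hn, _, hj, r⟩).1)
    (comm_F c hF hn' hj' r' hl (H n' ⟨hn', _, hj', r'⟩).2)

end Cfsg.Lib.R11.GD
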