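import Cfsg.Agent.Gold.Cm
import Cfsg.Agent.Gold.KLiftInner

/-! Weakly closed elementary abelian subgroups with an invariant quadratic form: definitions. -/

set_option autoImplicit false

namespace Cfsg.Lib.R11.SD

open Subgroup Cfsg.Lib.Trans Cfsg.Lib.Gold

universe u

variable {X : Type u} [Group X]

/-- A conjugacy class `Ω` of weakly closed subgroups with forms `β`, `q`. -/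
structure Hy (β : X → X → ZMod 2) (q : X → ZMod 2) (Ω : Subgroup X → Prop) : Prop where
  symm : ∀ u v, β u v = β v u
  add : ∀ r u v, r * u = u * r → r * v = v * r → β r (u * v) = β r u + β r v
  conj : ∀ g u v, β (g * u * g⁻¹) (g * v * g⁻¹) = β u v
  self : ∀ u, β u u = 0
  qconj : ∀ g u, q (g * u * g⁻¹) = q u
  qadd : ∀ u v, u * u = 1 → v * v = 1 → u * v = v * u → q (u * v) = q u + q v + β u v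
  cjm : ∀ g V, Ω V → Ω (cj g V)
  sq : ∀ V, Ω V → ∀ v ∈ V, v * v = 1
  nd : ∀ V, Ω V → ∀ v ∈ V, (∀ w ∈ V, β v w = 0) → v = 1
  wc : ∀ V W, Ω V → Ω W → W ≤ Ns V → W = V
  n1 : ∀ V W, Ω V → Ω W → ∀ b ∈ W, b ∈ Ns V → b ∉ V → 2 < (C1 b).relIndex V
  ex : ∀ V W ρ, Ω V → Ω W → ¬ W ⊓ Ns V ≤ V → ¬ V ⊓ Ns W ≤ W → ρ ∈ V ⊓ W → ρ ≠ 1 →
    (∀ c ∈ V, c ∈ Ns W ↔ β ρ c = 0) → (∀ x ∈ W, x ∈ Ns V ↔ β ρ x = 0) →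
    (∀ c ∈ V ⊓ Ns W, ∀ b ∈ W ⊓ Ns V, c * b * c⁻¹ * b⁻¹ = 1 ∨ c * b * c⁻¹ * b⁻¹ = ρ) →
    (∃ a ∈ V, a ∉ Ns W ∧ ∀ b ∈ W ⊓ Ns V, ∀ b' ∈ W ⊓ Ns V,
      β (a * b * a⁻¹ * b⁻¹) (a * b' * a⁻¹ * b'⁻¹) = 0) ∨
    (∃ a ∈ W, a ∉ Ns V ∧ ∀ b ∈ V ⊓ Ns W, ∀ b' ∈ V ⊓ Ns W,
      β (a * b * a⁻¹ * b⁻¹) (a * b' * a⁻¹ * b'⁻¹) = 0)

/-- An extremal pair. -/
structure Mx (Ω : Subgroup X → Prop) (V W : Subgroup X) : Prop where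
  oV : Ω V
  oW : Ω W
  ad : ¬ W ⊓ Ns V ≤ V
  m1 : ∀ V' W', Ω V' → Ω W' → ¬ W' ⊓ Ns V' ≤ V' → Nat.card ↥(V' ⊓ W') ≤ Nat.card ↥(V ⊓ W)
  m2 : ∀ V' W', Ω V' → Ω W' → ¬ W' ⊓ Ns V' ≤ V' → Nat.card ↥(V' ⊓ W') = Nat.card ↥(V ⊓ W) →
    Nat.card ↥(V' ⊓ Ns W') ≤ Nat.card ↥(V ⊓ Ns W)

end Cfsg.Lib.R11.SD
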