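import Cfsg.Agent.R11.SD0
import Cfsg.Agent.Local.ProdCard

/-! Extremal pairs of weakly closed subgroups. -/

set_option autoImplicit false
set_option linter.unusedSectionVars false
set_option linter.unusedVariables false

namespace Cfsg.Lib.R11.SD

open Subgroup Cfsg.Lib.Trans Cfsg.Lib.Gold Cfsg.Lib.Solv
open Cfsg.Lib.Local.CD (card_sup_mul_card_inf_of_le_normalizer card_mul_le_card_sup_mul_card_inf)

universe u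

variable {X : Type u} [Group X] [Finite X] {β : X → X → ZMod 2} {q : X → ZMod 2}
  {Ω : Subgroup X → Prop} {V W : Subgroup X} {a b c v x ρ : X}

theorem Hy.pg (h : Hy β q Ω) (oV : Ω V) : IsPGroup 2 V := isPGroup_of_sq (h.sq V oV)

theorem Hy.cm (h : Hy β q Ω) (oV : Ω V) (ha : a ∈ V) (hb : b ∈ V) : a * b = b * a :=
  comm_of_sq (h.sq V oV) a ha b hb

theorem Hy.cj1 (h : Hy β q Ω) (oV : Ω V) (ha : a ∈ V) (hb : b ∈ V) : a * b * a⁻¹ = b := by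
  rw [h.cm oV ha hb, mul_inv_cancel_right]

theorem Hy.inv (h : Hy β q Ω) (oV : Ω V) (ha : a ∈ V) : a⁻¹ = a :=
  inv_eq_of_mul_eq_one_right (h.sq V oV a ha)

theorem Hy.two_le (h : Hy β q Ω) (oV : Ω V) {P : Subgroup X} (hP : IsPGroup 2 P) (e : V ≤ P) :
    P ≤ Ns V := by
  by_contra h1
  obtain ⟨x, hx, h2⟩ := SetLike.exists_of_lt (Trans.lt_inf_normalizer hP
    (lt_of_le_not_ge (inf_le_left (b := Ns V)) fun e => h1 (le_inf_iff.1 e).2))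
  refine h2 (mem_inf.2 ⟨hx.1, mem_Ns_iff.2 (h.wc _ _ oV (h.cjm x V oV) ?_)⟩)
  exact ((cj_mono x (le_inf e le_normalizer)).trans (cj_eq_of_mem_normalizer hx.2).le).trans
    inf_le_right

theorem Hy.le_Ns (h : Hy β q Ω) (oV : Ω V) {J : Subgroup X} (e : J ≤ V) : V ≤ Ns J := fun v hv =>
  mem_normalizer_of_cj_le (cj_le_iff.2 fun j hj => by rwa [h.cj1 oV hv (e hj)])

theorem Hy.repl (h : Hy β q Ω) (oV : Ω V) (oW : Ω W) {J : Subgroup X} (e : J ≤ W) :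
    ∃ U, Ω U ∧ J ≤ U ∧ V ⊓ Ns J ≤ Ns U := by
  obtain ⟨P, hP, h1⟩ := exists_isSylowIn_ge (p := 2) (H := Ns J) (h.pg oV).to_inf_left inf_le_right
  obtain ⟨k, hk, h2⟩ := hP.exists_cj_le (h.pg oW) (h.le_Ns oW e)
  refine ⟨_, h.cjm k W oW, ?_, h1.trans (h.two_le (h.cjm k W oW) hP.isPGroup h2)⟩
  exact (cj_eq_of_mem_normalizer hk).ge.trans (cj_mono k e)

theorem Hy.conjIn (h : Hy β q Ω) (oV : Ω V) (oW : Ω W) : ∃ g ∈ V ⊔ W, cj g W = V := by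
  obtain ⟨P, hP, h1⟩ := exists_isSylowIn_ge (p := 2) (H := V ⊔ W) (h.pg oV) le_sup_left
  obtain ⟨k, hk, h2⟩ := hP.exists_cj_le (h.pg oW) le_sup_right
  exact ⟨k, hk, h.wc _ _ oV (h.cjm k W oW) (h2.trans (h.two_le oV hP.isPGroup h1))⟩

theorem cmem {A : Subgroup X} (hc : c ∈ Ns A) (hb : b ∈ A) : c * b * c⁻¹ * b⁻¹ ∈ A :=
  mul_mem (mem_normalizer_conj hc hb) (inv_mem hb)

theorem cmem' {A : Subgroup X} (hc : c ∈ A) (hb : b ∈ Ns A) : c * b * c⁻¹ * b⁻¹ ∈ A := by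
  simpa [mul_assoc] using mul_mem hc (mem_normalizer_conj hb (inv_mem hc))

theorem Mx.inf_eq (m : Mx Ω V W) {V' W' : Subgroup X} (o1 : Ω V') (o2 : Ω W')
    (ad : ¬ W' ⊓ Ns V' ≤ V') (e : V ⊓ W ≤ V' ⊓ W') : V ⊓ W = V' ⊓ W' :=
  eq_of_le_of_card_ge e (m.m1 _ _ o1 o2 ad)

theorem Mx.one (h : Hy β q Ω) (m : Mx Ω V W) (bW : b ∈ W) (bN : b ∈ Ns V) (bV : b ∉ V) (cV : c ∈ V)
    (e : c * b * c⁻¹ * b⁻¹ ∈ W) : c ∈ Ns W := by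
  have k : ∀ c ∈ V, c * b * c⁻¹ * b⁻¹ ∈ W → c ∈ V ⊓ Ns (V ⊓ W ⊔ zpowers b) := fun c cV e =>
    ⟨cV, mem_normalizer_of_cj_le (by
      rw [cj_sup]
      refine sup_le (cj_le_iff.2 fun j hj => ?_) (cj_le_iff_le_cj_inv.2 (zpowers_le.2 (mem_cj_inv.2 ?_)))
      · rw [h.cj1 m.oV cV hj.1]; exact mem_sup_left hj
      · simpa using mul_mem (mem_sup_left (⟨cmem' cV bN, e⟩ : _ ∈ V ⊓ W) :
          _ ∈ V ⊓ W ⊔ zpowers b) (mem_sup_right (mem_zpowers b)))⟩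
  obtain ⟨U, oU, h1, h2⟩ := h.repl m.oV m.oW (J := V ⊓ W ⊔ zpowers b)
    (sup_le inf_le_right (zpowers_le.2 bW))
  have ad : ¬ U ⊓ Ns V ≤ V := fun e => bV (e ⟨h1 (mem_sup_right (mem_zpowers b)), bN⟩)
  have e1 := m.inf_eq m.oV oU ad (le_inf inf_le_left (le_sup_left.trans h1))
  have e2 : V ⊓ Ns W = V ⊓ Ns U := eq_of_le_of_card_ge
    (fun c hc => ⟨hc.1, h2 (k c hc.1 (cmem hc.2 bW))⟩) (m.m2 _ _ m.oV oU ad (by rw [e1]))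
  exact (e2.ge ⟨cV, h2 (k c cV e)⟩).2

theorem Mx.comm (h : Hy β q Ω) (m : Mx Ω V W) (bW : b ∈ W) (bN : b ∈ Ns V) (vV : v ∈ V) :
    v * b * v⁻¹ * b⁻¹ ∈ V ⊓ Ns W := by
  refine ⟨cmem' vV bN, ?_⟩
  by_cases bV : b ∈ V
  · rw [h.cj1 m.oV vV bV, mul_inv_cancel]; exact one_mem _
  refine m.one h bW bN bV (cmem' vV bN) ?_
  have e1 : b * v * b⁻¹ ∈ V := mem_normalizer_conj bN vV
  have e2 : v * b * v⁻¹ * b⁻¹ * b = b * (v * b * v⁻¹ * b⁻¹) := by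
    rw [inv_mul_cancel_right, h.inv m.oV vV]
    calc _ = v * (b * v * b⁻¹) * b := by group
      _ = b * v * b⁻¹ * v * b := by rw [h.cm m.oV vV e1]
      _ = _ := by rw [h.inv m.oW bW]; simp only [mul_assoc]
  rw [e2, mul_inv_cancel_right, mul_inv_cancel]
  exact one_mem _

theorem Mx.not_le (h : Hy β q Ω) (m : Mx Ω V W) : ¬ V ≤ Ns W := fun e =>
  m.ad (h.wc _ _ m.oW m.oV e ▸ inf_le_left)

theorem Mx.ad' (h : Hy β q Ω) (m : Mx Ω V W) : ¬ V ⊓ Ns W ≤ W := fun e => by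
  obtain ⟨b, hb, bV⟩ := SetLike.not_le_iff_exists.1 m.ad
  exact m.not_le h fun v hv => m.one h hb.1 hb.2 bV hv (e (m.comm h hb.1 hb.2 hv))

namespace SD1

theorem three (h : Hy β q Ω) (m : Mx Ω V W)
    (m3 : ∀ V' W', Ω V' → Ω W' → ¬ W' ⊓ Ns V' ≤ V' → Nat.card ↥(V' ⊓ W') = Nat.card ↥(V ⊓ W) →
      Nat.card ↥(V' ⊓ Ns W') = Nat.card ↥(V ⊓ Ns W) →
      Nat.card ↥(W' ⊓ Ns V') ≤ Nat.card ↥(W ⊓ Ns V))
    (xW : x ∈ W) (e : ∀ a ∈ V ⊓ Ns W, x * a * x⁻¹ ∈ V) : x ∈ Ns V := by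
  have k : ∀ x ∈ W, (∀ a ∈ V ⊓ Ns W, x * a * x⁻¹ ∈ V) → x ∈ W ⊓ Ns (V ⊓ Ns W) := fun x xW e =>
    ⟨xW, mem_normalizer_of_cj_le (cj_le_iff.2 fun a ha => mem_inf.2 ⟨e a ha,
      mul_mem (mul_mem (le_normalizer xW) ha.2) (inv_mem (le_normalizer xW))⟩)⟩
  obtain ⟨U, oU, h1, h2⟩ := h.repl m.oW m.oV (J := V ⊓ Ns W) inf_le_left
  have kB : W ⊓ Ns V ≤ W ⊓ Ns U := fun b hb =>
    ⟨hb.1, h2 (k b hb.1 fun a ha => mem_normalizer_conj hb.2 ha.1)⟩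
  have e1 : V ⊓ W = W ⊓ U := m.inf_eq m.oW oU (fun e => m.ad' h ((le_inf h1 inf_le_right).trans e))
    (le_inf inf_le_right ((inf_le_inf_left V le_normalizer).trans h1))
  have ad : ¬ W ⊓ Ns U ≤ U := fun e => m.ad fun b hb => (e1.ge ⟨hb.1, e (kB hb)⟩).1
  have e2 : Nat.card ↥(U ⊓ W) = Nat.card ↥(V ⊓ W) := by rw [e1, inf_comm]
  have e3 : V ⊓ Ns W = U ⊓ Ns W :=
    eq_of_le_of_card_ge (le_inf h1 inf_le_right) (m.m2 _ _ oU m.oW ad e2)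
  have e4 := eq_of_le_of_card_ge kB (m3 _ _ oU m.oW ad e2 (by rw [e3]))
  exact (e4.ge ⟨xW, h2 (k x xW e)⟩).2

theorem four (h : Hy β q Ω) (m : Mx Ω V W)
    (k : ∀ x ∈ W, (∀ a ∈ V ⊓ Ns W, x * a * x⁻¹ ∈ V) → x ∈ Ns V) :
    Nat.card ↥(V ⊓ Ns W) ≤ Nat.card ↥(W ⊓ Ns V) := by
  have nW : ¬ W ≤ Ns V := fun e => m.ad (h.wc _ _ m.oV m.oW e ▸ inf_le_left)
  have DN : V ⊓ Ns W ⊔ W ⊓ Ns V ≤ Ns V := sup_le (inf_le_left.trans le_normalizer) inf_le_right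
  have hP : IsPGroup 2 ↥(W ⊔ V ⊓ Ns W) :=
    IsPGroup.to_sup_of_normal_left' (h.pg m.oW) (h.pg m.oV).to_inf_left inf_le_right
  obtain ⟨p, hp, pD⟩ := SetLike.exists_of_lt (Trans.lt_inf_normalizer hP
    (T := V ⊓ Ns W ⊔ W ⊓ Ns V) (lt_of_le_not_ge (sup_le le_sup_right (inf_le_left.trans le_sup_left))
      fun e => nW ((le_sup_left.trans e).trans DN)))
  obtain ⟨x, xW, a, ha, rfl⟩ := (Coprime.mem_sup_iff inf_le_right).1 hp.1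
  have aD : a ∈ V ⊓ Ns W ⊔ W ⊓ Ns V := mem_sup_left ha
  have xD : x ∈ Ns (V ⊓ Ns W ⊔ W ⊓ Ns V) := (mul_mem_cancel_right (le_normalizer aD)).1 hp.2
  have xN : x ∉ Ns V := fun e => pD (mul_mem (mem_sup_right ⟨xW, e⟩) aD)
  have h1 : cj x (V ⊓ Ns W) ≤ V ⊓ Ns W ⊔ W ⊓ Ns V :=
    (cj_mono x le_sup_left).trans (cj_eq_of_mem_normalizer xD).le
  have e1 := m.inf_eq m.oV (h.cjm x V m.oV) (fun e => xN (k x xW fun a ha =>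
    e ⟨conj_mem_cj.2 ha.1, DN (h1 (conj_mem_cj.2 ha))⟩))
    (le_inf inf_le_left fun j hj => h.cj1 m.oW xW hj.2 ▸ conj_mem_cj.2 hj.1)
  have c1 := card_mul_le_card_sup_mul_card_inf (V ⊓ Ns W) (cj x (V ⊓ Ns W))
  have c2 := card_sup_mul_card_inf_of_le_normalizer (H := V ⊓ Ns W) (K := W ⊓ Ns V)
    fun b hb => mem_Ns_inf hb.2 (le_normalizer (le_normalizer hb.1))
  have c3 : Nat.card ↥(V ⊓ Ns W ⊔ cj x (V ⊓ Ns W)) ≤ Nat.card ↥(V ⊓ Ns W ⊔ W ⊓ Ns V) :=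
    Subgroup.card_le_of_le (sup_le le_sup_left h1)
  have c4 : Nat.card ↥(V ⊓ Ns W ⊓ cj x (V ⊓ Ns W)) ≤ Nat.card ↥(V ⊓ Ns W ⊓ (W ⊓ Ns V)) :=
    Subgroup.card_le_of_le fun j hj => by
      have := e1.ge ⟨hj.1.1, cj_mono x inf_le_left hj.2⟩
      exact ⟨hj.1, this.2, le_normalizer this.1⟩
  rw [card_cj] at c1
  exact Nat.le_of_mul_le_mul_left ((c1.trans (Nat.mul_le_mul c3 c4)).trans c2.le) Nat.card_pos

end SD1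

theorem exists_sym (h : Hy β q Ω) (oV : Ω V) (oW : Ω W) (ad : ¬ W ⊓ Ns V ≤ V) :
    ∃ V W, Mx Ω V W ∧ Mx Ω W V := by
  obtain ⟨p1, a1, b1⟩ := Set.exists_max_image
    {p : Subgroup X × Subgroup X | Ω p.1 ∧ Ω p.2 ∧ ¬ p.2 ⊓ Ns p.1 ≤ p.1}
    (fun p => Nat.card ↥(p.1 ⊓ p.2)) (Set.toFinite _) ⟨(V, W), oV, oW, ad⟩
  obtain ⟨p2, a2, b2⟩ := Set.exists_max_image
    {p : Subgroup X × Subgroup X | (Ω p.1 ∧ Ω p.2 ∧ ¬ p.2 ⊓ Ns p.1 ≤ p.1) ∧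
      Nat.card ↥(p.1 ⊓ p.2) = Nat.card ↥(p1.1 ⊓ p1.2)}
    (fun p => Nat.card ↥(p.1 ⊓ Ns p.2)) (Set.toFinite _) ⟨p1, a1, rfl⟩
  obtain ⟨⟨V, W⟩, ⟨⟨⟨oV, oW, ad⟩, e1⟩, e2⟩, b3⟩ := Set.exists_max_image
    {p : Subgroup X × Subgroup X | ((Ω p.1 ∧ Ω p.2 ∧ ¬ p.2 ⊓ Ns p.1 ≤ p.1) ∧
      Nat.card ↥(p.1 ⊓ p.2) = Nat.card ↥(p1.1 ⊓ p1.2)) ∧
      Nat.card ↥(p.1 ⊓ Ns p.2) = Nat.card ↥(p2.1 ⊓ Ns p2.2)}
    (fun p => Nat.card ↥(p.2 ⊓ Ns p.1)) (Set.toFinite _) ⟨p2, a2, rfl⟩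
  have m : Mx Ω V W := ⟨oV, oW, ad, fun V' W' o1 o2 k => (b1 (V', W') ⟨o1, o2, k⟩).trans e1.ge,
    fun V' W' o1 o2 k e => (b2 (V', W') ⟨⟨o1, o2, k⟩, e.trans e1⟩).trans e2.ge⟩
  have c := SD1.four h m fun x xW => SD1.three h m (fun V' W' o1 o2 k e e' =>
    b3 (V', W') ⟨⟨⟨o1, o2, k⟩, e.trans e1⟩, e'.trans e2⟩) xW
  exact ⟨V, W, m, oW, oV, m.ad' h, fun V' W' o1 o2 k => by rw [inf_comm W]; exact m.m1 _ _ o1 o2 k,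
    fun V' W' o1 o2 k e => (m.m2 _ _ o1 o2 k (by rw [e, inf_comm])).trans c⟩

end Cfsg.Lib.R11.SD
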